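import Cfsg.Agent.Lib.FischerSpace.ReflThree
import Cfsg.Agent.Lib.UnitaryOrthogonal.Standard
import Cfsg.Agent.GraphAut.Congr
import Cfsg.Agent.Lib.Reflections.NegOne
import Cfsg.Prelude.Def_FischerSpaces

/-!
The projective reflection group of a seven-dimensional orthogonal space over three elements, with all
reflection vectors of an orthogonal basis of the same norm, is the simple orthogonal group.
-/

set_option autoImplicit false
set_option linter.unusedSectionVars false

namespace Cfsg.Agent.TT95N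

open QuadraticMap Cfsg.Agent.Reflections

variable {ι : Type} [Fintype ι] [DecidableEq ι]

local notation "K" => ZMod 3

theorem orth_sum_value {κ : Type} [Fintype κ] {Q : QuadraticForm K (ι → K)} (e : κ → ι → K)
    (ho : ∀ i j, i ≠ j → polar ⇑Q (e i) (e j) = 0) (a : κ → K) :
    Q (∑ i, a i • e i) = ∑ i, a i * a i * Q (e i) := by
  classical
  induction (Finset.univ : Finset κ) using Finset.induction_on with
  | empty => simp
  | @insert i s hi ih =>
    rw [Finset.sum_insert hi, Finset.sum_insert hi, Reflections.map_add', Reflections.map_smul', ih]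
    have : polar ⇑Q (a i • e i) (∑ j ∈ s, a j • e j) = 0 := by
      show Q.polarBilin (a i • e i) (∑ j ∈ s, a j • e j) = 0
      rw [map_sum]
      refine Finset.sum_eq_zero fun j hj => ?_
      have hij : i ≠ j := fun h => hi (h ▸ hj)
      show polar ⇑Q (a i • e i) (a j • e j) = 0
      rw [polar_smul_left, polar_smul_right, ho i j hij, smul_zero, smul_zero]
    rw [this, add_zero]

theorem li_of_orth {κ : Type} [Fintype κ] {Q : QuadraticForm K (ι → K)} (e : κ → ι → K)
    (ho : ∀ i j, i ≠ j → polar ⇑Q (e i) (e j) = 0) (hne : ∀ i, Q (e i) ≠ 0) : LinearIndependent K e := by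
  classical
  rw [Fintype.linearIndependent_iff]
  intro a ha j
  have h : Q.polarBilin (e j) (∑ i, a i • e i) = 0 := by rw [ha]; simp
  rw [map_sum, Finset.sum_eq_single j (fun i _ hij => by
    show polar ⇑Q (e j) (a i • e i) = 0
    rw [polar_smul_right, ho j i (Ne.symm hij), smul_zero]) (by simp)] at h
  change polar ⇑Q (e j) (a j • e j) = 0 at h
  rw [polar_smul_right, polar_self', smul_eq_mul] at h
  have h2 : (2 : K) ≠ 0 := by decide
  simpa [h2, hne j] using h

theorem span_rad {κ : Type} [Fintype κ] {Q : QuadraticForm K (ι → K)} (e : κ → ι → K)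
    (ho : ∀ i j, i ≠ j → polar ⇑Q (e i) (e j) = 0) (hne : ∀ i, Q (e i) ≠ 0) :
    ∀ x ∈ Submodule.span K (Set.range e), (∀ i, polar ⇑Q (e i) x = 0) → x = 0 := by
  classical
  intro x hx h
  rw [Submodule.mem_span_range_iff_exists_fun] at hx
  obtain ⟨a, rfl⟩ := hx
  refine Finset.sum_eq_zero fun j _ => ?_
  have hj : Q.polarBilin (e j) (∑ i, a i • e i) = 0 := h j
  rw [map_sum, Finset.sum_eq_single j (fun i _ hij => by
    show polar ⇑Q (e j) (a i • e i) = 0
    rw [polar_smul_right, ho j i (Ne.symm hij), smul_zero]) (by simp)] at hj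
  change polar ⇑Q (e j) (a j • e j) = 0 at hj
  rw [polar_smul_right, polar_self', smul_eq_mul] at hj
  have h2 : (2 : K) ≠ 0 := by decide
  have : a j = 0 := by simpa [h2, hne j] using hj
  rw [this, zero_smul]

/-- An orthogonal basis of norm `c`, by the discriminant. -/
theorem exists_norm_basis {c : K} (hc : c ≠ 0) {Q : QuadraticForm K (Fin 7 → K)}
    (hQ : Q.polarBilin.Nondegenerate) (hμ : Cfsg.polarGramDet (⇑Q) = -c) :
    ∃ e : Fin 7 → Fin 7 → K, (∀ i j, i ≠ j → polar ⇑Q (e i) (e j) = 0) ∧ ∀ i, Q (e i) = c := by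
  classical
  have h2 : (2 : K) ≠ 0 := by decide
  have hp : ∀ k, k ≤ 6 → ∃ p : Fin k → Fin 7 → K, (∀ i j, i ≠ j → polar ⇑Q (p i) (p j) = 0) ∧
      ∀ i, Q (p i) = c := by
    intro k
    induction k with
    | zero => exact fun _ => ⟨Fin.elim0, fun i => i.elim0, fun i => i.elim0⟩
    | succ k ih =>
      intro hk
      obtain ⟨p, ho, hv⟩ := ih (by omega)
      have hne : ∀ i, Q (p i) ≠ 0 := fun i => by rw [hv]; exact hc
      obtain ⟨x, hx, hxp⟩ := exists_value_orth h2 hQ (li_of_orth p ho hne) (span_rad p ho hne)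
        (by simp; omega) c
      refine ⟨Fin.cons x p, ?_, Fin.cases hx (by simpa using hv)⟩
      intro i j hij
      induction i using Fin.cases with
      | zero =>
        induction j using Fin.cases with
        | zero => exact absurd rfl hij
        | succ j => simp only [Fin.cons_zero, Fin.cons_succ]; rw [polar_comm]; exact hxp j
      | succ i =>
        induction j using Fin.cases with
        | zero => simp only [Fin.cons_zero, Fin.cons_succ]; exact hxp i
        | succ j => simp only [Fin.cons_succ]; exact ho i j fun h => hij (by rw [h])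
  obtain ⟨p, ho, hv⟩ := hp 6 le_rfl
  have hne : ∀ i, Q (p i) ≠ 0 := fun i => by rw [hv]; exact hc
  obtain ⟨x, hx0, hx⟩ := exists_orth Q p (by simp)
  have hnot : x ∉ Submodule.span K (Set.range p) := fun h => hx0 (span_rad p ho hne x h hx)
  have hli := li_cons (li_of_orth p ho hne) hnot
  set e : Fin 7 → Fin 7 → K := Fin.cons x p with he
  have hoe : ∀ i j, i ≠ j → polar ⇑Q (e i) (e j) = 0 := by
    intro i j hij
    induction i using Fin.cases with
    | zero =>
      induction j using Fin.cases with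
      | zero => exact absurd rfl hij
      | succ j => simp only [he, Fin.cons_zero, Fin.cons_succ]; rw [polar_comm]; exact hx j
    | succ i =>
      induction j using Fin.cases with
      | zero => simp only [he, Fin.cons_zero, Fin.cons_succ]; exact hx i
      | succ j => simp only [he, Fin.cons_succ]; exact ho i j fun h => hij (by rw [h])
  set M : Matrix (Fin 7) (Fin 7) K := Matrix.of e
  set A : Matrix (Fin 7) (Fin 7) K := LinearMap.toMatrix₂' K Q.polarBilin with hA
  have hdetA : A.det = -c := by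
    rw [← hμ]
    refine congrArg Matrix.det (Matrix.ext fun i j => ?_)
    rw [hA, LinearMap.toMatrix₂'_apply]
    rfl
  have hform : M * A * M.transpose = Matrix.diagonal fun i => 2 * Q (e i) := by
    refine Matrix.ext fun i j => ?_
    have hb : (M * A * M.transpose) i j = polar ⇑Q (e i) (e j) := by
      show _ = Q.polarBilin (e i) (e j)
      conv_rhs => rw [show Q.polarBilin = Matrix.toLinearMap₂' K A by rw [hA, Matrix.toLinearMap₂'_toMatrix']]
      rw [Matrix.toLinearMap₂'_apply', Matrix.mul_assoc]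
      rfl
    rw [hb]
    by_cases h : i = j
    · subst h; rw [Matrix.diagonal_apply_eq, polar_self']
    · rw [Matrix.diagonal_apply_ne _ h, hoe i j h]
  have hM : M.det ≠ 0 := by
    have : IsUnit M := Matrix.linearIndependent_rows_iff_isUnit.1 hli
    exact (Matrix.isUnit_iff_isUnit_det M).1 this |>.ne_zero
  have hd := congrArg Matrix.det hform
  rw [Matrix.det_mul, Matrix.det_mul, Matrix.det_transpose, Matrix.det_diagonal, hdetA,
    Fin.prod_univ_succ] at hd
  simp only [he, Fin.cons_zero, Fin.cons_succ, hv, Finset.prod_const, Finset.card_univ, Fintype.card_fin] at hd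
  have key : ∀ c y s : K, c ≠ 0 → s ≠ 0 → s * (-c) * s = 2 * y * (2 * c) ^ 6 → y = c := by decide
  refine ⟨e, hoe, fun i => ?_⟩
  induction i using Fin.cases with
  | zero => simpa [he] using key c _ _ hc hM hd
  | succ i => simpa [he] using hv i

/-- The projective reflection group is the derived group modulo its centre. -/
theorem proj_refl_iso_omega {c : K} (hc : c ≠ 0) {Q : QuadraticForm K (Fin 7 → K)}
    (hQ : Q.polarBilin.Nondegenerate) (e : Fin 7 → Fin 7 → K)
    (ho : ∀ i j, i ≠ j → polar ⇑Q (e i) (e j) = 0) (hv : ∀ i, Q (e i) = c) :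
    Nonempty ((Cfsg.reflectionSubgroup (⇑Q) c ⧸ Subgroup.center (Cfsg.reflectionSubgroup (⇑Q) c)) ≃*
      Cfsg.POmega K (⇑Q)) := by
  classical
  have h2 : (2 : K) ≠ 0 := by decide
  have hn : 2 ≤ Fintype.card (Fin 7) := by simp
  have hnc : -c ≠ 0 := neg_ne_zero.2 hc
  have hns : ¬ IsSquare (-1 : K) := by
    rintro ⟨r, hr⟩; revert hr; revert r; decide
  have hnot : ¬ ∃ t : K, t * t * c = -c := by
    rintro ⟨t, ht⟩
    have : ∀ c t : K, c ≠ 0 → t * t * c = -c → False := by decide
    exact this c t hc ht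
  set R := Cfsg.reflectionSubgroup (⇑Q) c with hR
  have hle : R ≤ (theta Q (-c)).ker := by
    rw [hR, Cfsg.reflectionSubgroup, Subgroup.closure_le]
    intro g hg
    obtain ⟨v, hvc, rfl⟩ := (FischerSpace.ReflThree.mem_norm_iff hc).1 hg
    rw [SetLike.mem_coe, MonoidHom.mem_ker]
    exact theta_refl_of_not_exists h2 (hvc ▸ hc) hnc (by rw [hvc]; exact hnot)
  obtain ⟨w, hw⟩ := exists_value h2 hQ hn (-c)
  have hwθ : theta Q (-c) (refl Q w) = -1 :=
    theta_refl_of_exists h2 (hw ▸ hnc) hnc ⟨1, by rw [hw]; ring⟩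
  have hRk : R = (theta Q (-c)).ker := by
    refine le_antisymm hle fun g hg => ?_
    by_contra hgR
    have hi := FischerSpace.ReflThree.index_two (n := 7) (by norm_num) hQ hc
    have hwR : refl Q w ∉ R := fun h => by
      have := hle h
      rw [MonoidHom.mem_ker, hwθ] at this
      exact absurd this (by decide)
    have := hle ((Subgroup.mul_mem_iff_of_index_two hi).2 (iff_of_false hgR hwR))
    rw [MonoidHom.mem_ker, map_mul, MonoidHom.mem_ker.1 hg, hwθ] at this
    exact absurd this (by decide)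
  have hΩ : Cfsg.Omega K ⇑Q = (theta Q c).ker ⊓ R := by
    rw [hRk, omega_eq_ker h2 hQ hn hns]
    ext g
    rw [MonoidHom.mem_ker, Subgroup.mem_inf, MonoidHom.mem_ker, MonoidHom.mem_ker]
    show (theta Q 1 g, theta Q (-1) g) = (1, 1) ↔ _
    rcases FischerSpace.ReflThree.cases_three c with h | h | h
    · exact absurd h hc
    · subst h; simp [Prod.ext_iff]
    · subst h; simp [Prod.ext_iff, and_comm]
  obtain ⟨z, hz, hzψ⟩ := exists_mat_neg_one (Q := Q) h2 e rfl ho (fun i => by rw [hv]; exact hc)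
  have hzc : theta Q c z = -1 := by
    rw [hzψ, Finset.prod_congr rfl fun i _ => theta_refl_of_exists h2 (show Q (e i) ≠ 0 by rw [hv]; exact hc) hc
      ⟨1, by rw [hv]; ring⟩]
    rw [Finset.prod_const, Finset.card_univ, Fintype.card_fin]
    decide
  have hzR : z ∈ R := by
    rw [hRk, MonoidHom.mem_ker, hzψ]
    refine Finset.prod_eq_one fun i _ => ?_
    exact theta_refl_of_not_exists h2 (show Q (e i) ≠ 0 by rw [hv]; exact hc) hnc (by rw [hv]; exact hnot)
  have hzcen : ∀ g : Cfsg.isometryGroup K ⇑Q, Commute z g := fun g => eq_of_mat (by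
    show ((z * g : Cfsg.isometryGroup K ⇑Q) : GL (Fin 7) K).val = _
    simp only [mat] at hz ⊢
    push_cast
    rw [hz]
    simp)
  have hΩR : Cfsg.Omega K ⇑Q ≤ R := hΩ ▸ inf_le_right
  set f : Cfsg.Omega K ⇑Q →* R ⧸ Subgroup.center R :=
    (QuotientGroup.mk' _).comp (Subgroup.inclusion hΩR) with hf
  have hsplit : ∀ r : R, (r : Cfsg.isometryGroup K ⇑Q) ∈ Cfsg.Omega K ⇑Q ∨
      (r : Cfsg.isometryGroup K ⇑Q) * z ∈ Cfsg.Omega K ⇑Q := by
    intro r
    rcases Int.units_eq_one_or (theta Q c r) with h | h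
    · exact Or.inl (hΩ ▸ ⟨MonoidHom.mem_ker.2 h, r.2⟩)
    · refine Or.inr (hΩ ▸ ⟨MonoidHom.mem_ker.2 ?_, mul_mem r.2 hzR⟩)
      rw [map_mul, h, hzc]; rfl
  have hfs : Function.Surjective f := by
    intro y
    obtain ⟨r, rfl⟩ := QuotientGroup.mk_surjective y
    rcases hsplit r with h | h
    · exact ⟨⟨_, h⟩, congrArg QuotientGroup.mk (Subtype.ext rfl)⟩
    · refine ⟨⟨_, h⟩, ?_⟩
      show QuotientGroup.mk (⟨(r : Cfsg.isometryGroup K ⇑Q) * z, _⟩ : R) = QuotientGroup.mk r
      symm
      rw [QuotientGroup.eq, Subgroup.mem_center_iff]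
      intro g
      refine Subtype.ext ?_
      push_cast
      rw [inv_mul_cancel_left]
      exact (hzcen g).eq.symm
  have hker : f.ker = Subgroup.center (Cfsg.Omega K ⇑Q) := by
    ext x
    rw [MonoidHom.mem_ker, Subgroup.mem_center_iff]
    show (QuotientGroup.mk (Subgroup.inclusion hΩR x) : R ⧸ Subgroup.center R) = 1 ↔ _
    rw [QuotientGroup.eq_one_iff, Subgroup.mem_center_iff]
    constructor
    · intro h y
      have e1 : (y : Cfsg.isometryGroup K ⇑Q) * x = x * y := congrArg Subtype.val (h ⟨y, hΩR y.2⟩)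
      exact Subtype.ext e1
    · intro h r
      refine Subtype.ext ?_
      show (r : Cfsg.isometryGroup K ⇑Q) * x = x * r
      rcases hsplit r with h' | h'
      · exact congrArg Subtype.val (h ⟨_, h'⟩)
      · have e1 : (r : Cfsg.isometryGroup K ⇑Q) * z * x = x * (r * z) := congrArg Subtype.val (h ⟨_, h'⟩)
        rw [mul_assoc, (hzcen _).eq, ← mul_assoc, ← mul_assoc] at e1
        exact mul_right_cancel e1
  exact ⟨((QuotientGroup.quotientMulEquivOfEq hker.symm).trans
    (QuotientGroup.quotientKerEquivOfSurjective f hfs)).symm⟩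

/-- Similar forms have isomorphic isometry groups. -/
theorem isometry_similar {κ : Type} [Fintype κ] [DecidableEq κ] {Q : (ι → K) → K} {Q' : (κ → K) → K}
    (φ : (ι → K) ≃ₗ[K] (κ → K)) {l : K} (hl : l ≠ 0) (h : ∀ x, Q' (φ x) = l * Q x) :
    Nonempty (Cfsg.isometryGroup K Q ≃* Cfsg.isometryGroup K Q') := by
  have hmem : ∀ g, GraphAut.glEquiv φ g ∈ Cfsg.isometryGroup K Q' ↔ g ∈ Cfsg.isometryGroup K Q := by
    intro g
    constructor
    · intro hg u v
      have e : ∀ w, (GraphAut.glEquiv φ g : Matrix κ κ K).mulVec (φ w) = φ ((g : Matrix ι ι K).mulVec w) := fun w => by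
        rw [GraphAut.glEquiv_mulVec, φ.symm_apply_apply]
      have := hg (φ u) (φ u)
      change Q' _ = Q' _ at this
      rw [show (Units.coeHom (Matrix κ κ K)) (GraphAut.glEquiv φ g) = (GraphAut.glEquiv φ g : Matrix κ κ K) from rfl,
        e, h, h] at this
      exact mul_left_cancel₀ hl this
    · intro hg u v
      show Q' ((GraphAut.glEquiv φ g : Matrix κ κ K).mulVec u) = Q' u
      rw [GraphAut.glEquiv_mulVec, h]
      conv_rhs => rw [← φ.apply_symm_apply u, h]
      exact congrArg (l * ·) (hg (φ.symm u) (φ.symm u))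
  refine ⟨
    { toFun := fun x => ⟨GraphAut.glEquiv φ x.1, (hmem _).2 x.2⟩
      invFun := fun y => ⟨(GraphAut.glEquiv φ).symm y.1, (hmem _).1 (by rw [MulEquiv.apply_symm_apply]; exact y.2)⟩
      left_inv := fun x => Subtype.ext ((GraphAut.glEquiv φ).symm_apply_apply _)
      right_inv := fun y => Subtype.ext ((GraphAut.glEquiv φ).apply_symm_apply _)
      map_mul' := fun x y => Subtype.ext (map_mul _ _ _) }⟩

/-- Similar forms have isomorphic projective orthogonal groups. -/
theorem pomega_similar {κ : Type} [Fintype κ] [DecidableEq κ] {Q : (ι → K) → K} {Q' : (κ → K) → K}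
    (φ : (ι → K) ≃ₗ[K] (κ → K)) {l : K} (hl : l ≠ 0) (h : ∀ x, Q' (φ x) = l * Q x) :
    Nonempty (Cfsg.POmega K Q ≃* Cfsg.POmega K Q') := by
  obtain ⟨E⟩ := isometry_similar φ hl h
  have hc : (Cfsg.Omega K Q).map E.toMonoidHom = Cfsg.Omega K Q' := by
    show (commutator _).map _ = commutator _
    rw [commutator_def, Subgroup.map_commutator, Subgroup.map_top_of_surjective _ E.surjective, ← commutator_def]
  let EO : Cfsg.Omega K Q ≃* Cfsg.Omega K Q' :=
    (E.subgroupMap (Cfsg.Omega K Q)).trans (MulEquiv.subgroupCongr hc)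
  refine ⟨QuotientGroup.congr _ _ EO ?_⟩
  ext y
  rw [Subgroup.mem_map, Subgroup.mem_center_iff]
  constructor
  · rintro ⟨x, hx, rfl⟩ w
    obtain ⟨v, rfl⟩ := EO.surjective w
    show EO v * EO x = EO x * EO v
    rw [← map_mul, ← map_mul, Subgroup.mem_center_iff.1 hx v]
  · intro h
    obtain ⟨x, rfl⟩ := EO.surjective y
    refine ⟨x, Subgroup.mem_center_iff.2 fun v => EO.injective ?_, rfl⟩
    rw [map_mul, map_mul]
    exact h (EO v)

/-- An orthogonal frame of norm two for the standard form. -/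
def frame7 : Fin 7 → (Unit ⊕ (Fin 3 ⊕ Fin 3)) → K :=
  ![Sum.elim (fun _ => 1) (Sum.elim ![1, 0, 0] ![1, 0, 0]),
    Sum.elim (fun _ => 1) (Sum.elim ![2, 0, 0] ![2, 0, 0]),
    Sum.elim (fun _ => 0) (Sum.elim ![0, 1, 1] ![0, 1, 1]),
    Sum.elim (fun _ => 0) (Sum.elim ![0, 1, 2] ![0, 1, 2]),
    Sum.elim (fun _ => 0) (Sum.elim ![1, 0, 0] ![2, 0, 0]),
    Sum.elim (fun _ => 0) (Sum.elim ![0, 1, 0] ![0, 2, 0]),
    Sum.elim (fun _ => 0) (Sum.elim ![0, 0, 1] ![0, 0, 2])]

theorem frame7_data : (∀ i, Cfsg.quadFormOdd 3 K (frame7 i) = 2) ∧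
    ∀ i j, i ≠ j → Cfsg.quadFormOdd 3 K (frame7 i + frame7 j) = 1 := by
  decide +kernel

/-- The projective reflection group in question is the standard simple orthogonal group. -/
theorem proj_refl7 {X : Type*} [Group X] {c : K} (hc : c ≠ 0)
    (h : Cfsg.IsProjReflectionGroupModThree X 7 (-c) c) :
    Nonempty (X ≃* Cfsg.POmega K (Cfsg.quadFormOdd 3 K)) := by
  classical
  obtain ⟨Q, hQ, hμ, ⟨eX⟩⟩ := h
  obtain ⟨e, ho, hv⟩ := exists_norm_basis hc hQ hμ
  obtain ⟨e1⟩ := proj_refl_iso_omega hc hQ e ho hv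
  set Q' := UnitaryOrthogonal.qOdd 3 K with hQ'
  have hap : ∀ v, Q' v = Cfsg.quadFormOdd 3 K v := UnitaryOrthogonal.qOdd_apply 3
  obtain ⟨hfv, hfp⟩ := frame7_data
  have hfo : ∀ i j, i ≠ j → polar ⇑Q' (frame7 i) (frame7 j) = 0 := fun i j hij => by
    rw [polar, hap, hap, hap, hfp i j hij, hfv, hfv]
    decide
  have li1 := li_of_orth (Q := Q) e ho (fun i => by rw [hv]; exact hc)
  have li2 := li_of_orth (Q := Q') frame7 hfo (fun i => by rw [hap, hfv]; decide)
  let bE := basisOfLinearIndependentOfCardEqFinrank li1 (by simp)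
  let bF := basisOfLinearIndependentOfCardEqFinrank li2 (by simp)
  let φ := bE.equiv bF (Equiv.refl _)
  have hφ : ∀ x, Cfsg.quadFormOdd 3 K (φ x) = (-c) * Q x := by
    intro x
    have hx : x = ∑ i, bE.repr x i • e i := by
      conv_lhs => rw [← bE.sum_repr x]
      simp [bE]
    have hφe : ∀ i, φ (e i) = frame7 i := fun i => by
      have := bE.equiv_apply i bF (Equiv.refl _)
      simpa [bE, bF, φ] using this
    rw [← hap]
    conv_lhs => rw [hx, map_sum]
    simp only [map_smul, hφe]
    rw [orth_sum_value frame7 hfo]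
    conv_rhs => rw [hx, orth_sum_value e ho, Finset.mul_sum]
    refine Finset.sum_congr rfl fun i _ => ?_
    rw [hap, hfv, hv]
    have : ∀ c a : K, c ≠ 0 → a * a * 2 = -c * (a * a * c) := by decide
    exact this c _ hc
  obtain ⟨e2⟩ := pomega_similar φ (neg_ne_zero.2 hc) hφ
  exact ⟨(eX.trans e1).trans e2⟩

end Cfsg.Agent.TT95N
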