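import Cfsg.Agent.TT95N.Near
import Cfsg.Agent.H25.M23.P5
import Cfsg.Agent.H25.M23.P11
import Cfsg.Agent.H25.M23.Const57
import Cfsg.Agent.H25.M23.Const11

/-!
The facts about subgroups of orders 5 and 11 of a group of type M(23) in the form used one level up.
-/

set_option autoImplicit false
set_option linter.unusedSectionVars false

namespace Cfsg.Agent.TT95N

open Cfsg.Agent.TT95

variable {K : Type*} [Group K] [Finite K] {E : Set K} {q : K} (hG : Cfg23 E q) [Gen E]

include hG

theorem data23_five : PData E 5 21 100800 25200 ∧ HasSym E 5 7 := by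
  haveI : Fact (Nat.Prime 5) := ⟨by norm_num⟩
  have hD := hG.lay.tt
  have hL := H25.M23.local5 hG
  have key : ∀ X : Subgroup K, Nat.card X = 5 →
      (∃ e : Equiv.Perm (Fin 7) →* K, Function.Injective e ∧ e '' swaps 7 = H25.M23.fx E X) ∧
      (H25.M23.fx E X).ncard = 21 ∧
      ∀ x ∈ H25.M23.fx E X, ∀ y ∈ H25.M23.fx E X, ∃ g ∈ Subgroup.normalizer (X : Set K), g * x * g⁻¹ = y := by
    intro X hX
    obtain ⟨t, ht, hadj, hcomm, hsub⟩ := H25.M23.exists_chain_five hG hL hX
    have hcard := H25.M23.ncard_fx_chain hD (n := 6) (Or.inr (by norm_num)) t ht hadj hcomm hsub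
    norm_num [Nat.factorial] at hcard
    obtain ⟨e, he⟩ := exists_permHom t (fun i => TT95.sq hD (ht i).1)
      (fun i j hij => ThreeTransp.pow_three_of_not_commute hD.1 (ht i).1 (ht j).1 (hadj i j hij)) hcomm
    have hcl : ∀ x ∈ H25.M23.fx E X, ∀ y ∈ H25.M23.fx E X, x * y * x⁻¹ ∈ H25.M23.fx E X := fun x hx y hy =>
      fixSet_conj_mem hD hx hy
    have hinj : Function.Injective e := by
      refine injective_of_ne (by norm_num) e (isSwap_adj (0 : Fin 6)) (isSwap_adj (1 : Fin 6)) ?_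
      rw [he, he]
      exact fun h => hadj 0 1 rfl (h ▸ Commute.refl _)
    refine ⟨⟨e, hinj, Set.eq_of_subset_of_ncard_le ?_ ?_ (Set.toFinite _)⟩, by omega, fun x hx y hy => ?_⟩
    · rintro _ ⟨s, hs, rfl⟩
      exact swap_image_mem e hcl (fun i => by rw [he]; exact ht i) hs
    · rw [Set.ncard_image_of_injective _ hinj, ncard_swaps_seven]; omega
    · obtain ⟨g1, h1, e1⟩ := hsub hx
      obtain ⟨g2, h2, e2⟩ := hsub hy
      have hle : Subgroup.closure (Set.range t) ≤ Subgroup.normalizer (X : Set K) := by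
        rw [Subgroup.closure_le]
        rintro _ ⟨i, rfl⟩
        exact Subgroup.centralizer_le_normalizer _ (ht i).2
      refine ⟨g2 * g1⁻¹, mul_mem (hle h2) (inv_mem (hle h1)), ?_⟩
      rw [← e1, ← e2]
      group
  refine ⟨⟨fun X Y hX hY => H25.M23.conj_all hG hL (by norm_num) (by norm_num) X Y hX hY,
    fun X hX => (key X hX).2.1, fun X hX => ?_, fun X hX => ?_,
    fun X hX x hx y hy hx' hy' => (key X hX).2.2 x ⟨hx, hx'⟩ y ⟨hy, hy'⟩⟩, fun X hX => (key X hX).1⟩
  · rw [(H25.M23.five hG hL X hX).2.1]; rfl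
  · rw [(H25.M23.five hG hL X hX).1]; rfl

theorem data23_eleven : ∃ nC, nC ∣ 88 ∧ PData E 11 2 440 nC := by
  haveI : Fact (Nat.Prime 11) := ⟨by norm_num⟩
  have hD := hG.lay.tt
  have hL := H25.M23.local11 hG
  have key : ∀ X : Subgroup K, Nat.card X = 11 → ∀ a ∈ H25.M23.fx E X,
      (H25.M23.fx E X).ncard = 2 ∧ Nat.card (Subgroup.centralizer (X : Set K)) ∣ 88 := by
    intro X hX a ha
    obtain ⟨e, he, hfx⟩ := H25.M23.fx_eleven hG hL hX ha
    refine ⟨by rw [hfx, Set.ncard_pair he.2.1.symm], ?_⟩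
    set C := Subgroup.centralizer (X : Set K)
    have hfib := card_eq_mul_of_fibres (fun g : C => (g : K) * a * (g : K)⁻¹)
      ((Subgroup.centralizer ({a} : Set K)).subgroupOf C) (fun g g' => by
        rw [Subgroup.mem_subgroupOf]; exact conj_eq_conj_iff (g := (g : K)) (g' := (g' : K)))
    have h44 : Nat.card ((Subgroup.centralizer ({a} : Set K)).subgroupOf C) = 44 := by
      rw [← Subgroup.inf_subgroupOf_right, Nat.card_congr (Subgroup.subgroupOfEquivOfLe inf_le_right).toEquiv,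
        inf_comm]
      exact (H25.M23.atFixed hG hL (by norm_num) hX ha).cent
    have hsub : Set.range (fun g : C => (g : K) * a * (g : K)⁻¹) ⊆ H25.M23.fx E X := by
      rintro _ ⟨g, rfl⟩
      exact conj_mem_fixSet hD (Subgroup.centralizer_le_normalizer _ g.2) ha
    have hle := Set.ncard_le_ncard hsub (Set.toFinite _)
    rw [hfx, Set.ncard_pair he.2.1.symm] at hle
    have hpos : 0 < (Set.range fun g : C => (g : K) * a * (g : K)⁻¹).ncard :=
      (Set.ncard_pos (Set.toFinite _)).2 ⟨_, 1, rfl⟩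
    rw [hfib, h44]
    interval_cases (Set.range fun g : C => (g : K) * a * (g : K)⁻¹).ncard <;> norm_num
  have hex : ∀ X : Subgroup K, Nat.card X = 11 → (H25.M23.fx E X).Nonempty := fun X hX =>
    H25.M23.exists_fx hG hX (by norm_num)
  have hconj := H25.M23.conj_all hG hL (by norm_num) (by norm_num)
  by_cases h : ∃ X0 : Subgroup K, Nat.card X0 = 11
  · obtain ⟨X0, hX0⟩ := h
    obtain ⟨a0, ha0⟩ := hex X0 hX0
    refine ⟨_, (key X0 hX0 a0 ha0).2, hconj, fun X hX => ?_, fun X hX => (H25.M23.eleven hG hL X hX).1,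
      fun X hX => ?_, fun X hX x hx y hy hx' hy' => H25.M23.trans_eleven hG hL hX ⟨hx, hx'⟩ y ⟨hy, hy'⟩⟩
    · obtain ⟨a, ha⟩ := hex X hX
      exact (key X hX a ha).1
    · obtain ⟨g, rfl⟩ := hconj X0 X hX0 hX
      rw [Subgroup.coe_map, show ((MulAut.conj g).toMonoidHom : K → K) '' (X0 : Set K) =
        (MulAut.conj g) '' (X0 : Set K) from rfl, ← map_centralizer_equiv (MulAut.conj g),
        Subgroup.card_map_of_injective (MulAut.conj g).injective]
  · refine ⟨44, by norm_num, hconj, ?_, ?_, ?_, ?_⟩ <;> intro X hX <;> exact absurd ⟨X, hX⟩ h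

end Cfsg.Agent.TT95N
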