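import Cfsg.Agent.TT95N.Stab
import Cfsg.Agent.TT95N.Local23
import Cfsg.Agent.TT95.Cent24

/-!
Type M(24): the standing hypotheses give what the normaliser computations use.
-/

set_option autoImplicit false
set_option linter.unusedSectionVars false

namespace Cfsg.Agent.TT95N

open Cfsg.Agent.TT95

variable {G : Type*} [Group G] [Finite G] {D : Set G} {d : G} {q : ModCenter (Subgroup.closure (nb D d))}
  (hG : Cfg24 D d q) [Gen D]

include hG

theorem base24 : Base24 D :=
  ⟨hG.lay, fun _ ha => centralizer24 hG ha, card_group24 hG⟩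

theorem comp24 {a e x : G} (ha : a ∈ D) (he : e ∈ far D a) (hx : x ∈ common D a e) :
    (comp (common D a e) x).ncard = 1080 := by
  have h := ncard_eq_mul (S := common D a e) (c := (comp (common D a e) x).ncard) fun y hy =>
    step_comp_const hG.step ha he hy ha he hx (by norm_num)
  rw [hG.lay.card_far a ha e he, hG.three a ha e he] at h
  omega

/-- No Sylow 5-subgroup fixes a noncommuting pair and a common neighbour. -/
theorem stab24 {a e b : G} (ha : a ∈ D) (he : e ∈ far D a) (hb : b ∈ common D a e) :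
    ¬ 25 ∣ Nat.card (Subgroup.centralizer ({a, e, b} : Set G)) := by
  have hD := hG.lay.tt
  haveI := loc_finite hD d
  haveI := gen_loc24 hG
  obtain ⟨g, hg⟩ := hG.lay.one b hb.1.1 d hG.mem
  have hab : g * a * g⁻¹ ∈ nb D d := hg ▸ (nb_conj hD g b a).2 (mem_nb_comm ha hb.1)
  have heb : g * e * g⁻¹ ∈ nb D d := hg ▸ (nb_conj hD g b e).2 (mem_nb_comm he.1 hb.2)
  have hne : ∀ {x : G} (hx : x ∈ nb D d), mkNb hx ≠ 1 := fun hx =>
    mkNb_ne_one hD hG.lay.one hG.lay.tf hG.mem hx
  set Q := ModCenter (Subgroup.closure (nb D d))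
  set u := mkNb hab
  set v := mkNb heb
  have hu : u ∈ locSet D d := mkNb_mem hD hab (hne hab)
  have hv : v ∈ far (locSet D d) u := by
    refine ⟨mkNb_mem hD heb (hne heb), fun h => he.2 ?_⟩
    exact (Commute.conj_iff g).1 (commute_of_mkNb hD hab heb h)
  intro h25
  -- the two points of the local group have stabiliser of order divisible by 25
  set T := Subgroup.centralizer ({a, e, b} : Set G)
  set T' := T.map (MulAut.conj g).toMonoidHom
  have hT'le : T' ≤ Subgroup.closure (nb D d) := by
    rw [← centralizer24 hG hG.mem]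
    rintro _ ⟨t, ht, rfl⟩
    rw [Subgroup.mem_centralizer_singleton_iff, ← hg]
    exact ((Commute.conj_iff g).2 (Subgroup.mem_centralizer_iff.1 ht b (by simp)).symm).eq
  set ρ : T' →* Q := (QuotientGroup.mk' _).comp (Subgroup.inclusion hT'le)
  have hker : Nat.card ρ.ker ∣ 2 := by
    rw [← card_center hG.lay hG.mem (centralizer24 hG hG.mem)]
    have : Nat.card ρ.ker = Nat.card (ρ.ker.map (Subgroup.inclusion hT'le)) :=
      (Subgroup.card_map_of_injective (Subgroup.inclusion_injective hT'le)).symm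
    rw [this]
    refine Subgroup.card_dvd_of_le ?_
    rintro _ ⟨t, ht, rfl⟩
    exact (QuotientGroup.eq_one_iff _).1 ht
  have hrange : ρ.range ≤ Subgroup.centralizer ({u} : Set Q) ⊓ Subgroup.centralizer ({v} : Set Q) := by
    rintro _ ⟨⟨_, t, ht, rfl⟩, rfl⟩
    have hc : ∀ z, z ∈ ({a, e, b} : Set G) → ∀ (hz : g * z * g⁻¹ ∈ nb D d),
        ρ ⟨_, t, ht, rfl⟩ * mkNb hz = mkNb hz * ρ ⟨_, t, ht, rfl⟩ := fun z hz hz' => by
      show QuotientGroup.mk' _ _ * QuotientGroup.mk' _ _ = QuotientGroup.mk' _ _ * QuotientGroup.mk' _ _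
      rw [← map_mul, ← map_mul]
      exact congrArg _ (Subtype.ext ((Commute.conj_iff g).2 (Subgroup.mem_centralizer_iff.1 ht z hz)).symm.eq)
    exact ⟨Subgroup.mem_centralizer_singleton_iff.2 (hc a (by simp) hab),
      Subgroup.mem_centralizer_singleton_iff.2 (hc e (by simp) heb)⟩
  have hcardT : Nat.card T' = Nat.card T := Subgroup.card_map_of_injective (MulAut.conj g).injective
  have hmul := ρ.ker.card_mul_index
  rw [Subgroup.index_ker, hcardT] at hmul
  have h25r : 25 ∣ Nat.card ρ.range := by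
    have : 25 ∣ 2 * Nat.card ρ.range :=
      dvd_trans (hmul ▸ h25 : 25 ∣ Nat.card ρ.ker * Nat.card ρ.range) (Nat.mul_dvd_mul_right hker _)
    exact (Nat.Coprime.dvd_of_dvd_mul_left (by norm_num) this)
  set S := Subgroup.centralizer ({u} : Set Q) ⊓ Subgroup.centralizer ({v} : Set Q)
  have h25S : 25 ∣ Nat.card S := h25r.trans (Subgroup.card_dvd_of_le hrange)
  -- orbit counts in the local group
  have hL := hG.loc.lay
  set Cu := Subgroup.centralizer ({u} : Set Q)
  have hQ : Nat.card Q = 31671 * Nat.card Cu := by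
    have hr : Set.range (fun z : Q => z * u * z⁻¹) = locSet D d := by
      ext x
      exact ⟨fun ⟨z, hz⟩ => hz ▸ TT95.conj_mem hL.tt z hu, fun hx => hL.one u hu x hx⟩
    rw [card_eq_mul_of_fibres (fun z : Q => z * u * z⁻¹) Cu (fun _ _ => conj_eq_conj_iff), hr, hL.card_D]
  have hCu : Nat.card Cu = 28160 * Nat.card S := by
    have hr : Set.range (fun z : Cu => (z : Q) * v * (z : Q)⁻¹) = far (locSet D d) u := by
      ext x
      constructor
      · rintro ⟨z, rfl⟩
        refine ⟨TT95.conj_mem hL.tt _ hv.1, fun h => hv.2 ?_⟩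
        have hz := mem_cent_singleton_iff.1 z.2
        refine (Commute.conj_iff (z : Q)).1 ?_
        rw [hz]; exact h
      · intro hx
        obtain ⟨z, hz, hz'⟩ := hL.farPairs u v u x hu hv hu hx
        exact ⟨⟨z, mem_cent_singleton_iff.2 hz⟩, hz'⟩
    have hfar : (far (locSet D d) u).ncard = 28160 := by
      have := hL.card_split hu (Set.toFinite _)
      omega
    rw [card_eq_mul_of_fibres (fun z : Cu => (z : Q) * v * (z : Q)⁻¹) ((Subgroup.centralizer ({v} : Set Q)).subgroupOf Cu)
      (fun z z' => by rw [Subgroup.mem_subgroupOf]; exact conj_eq_conj_iff (g := (z : Q)) (g' := (z' : Q))),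
      hr, hfar, ← Subgroup.inf_subgroupOf_right,
      Nat.card_congr (Subgroup.subgroupOfEquivOfLe inf_le_right).toEquiv]
    rw [inf_comm]
  have hcardQ := card_group23 hG.loc
  obtain ⟨c, hc⟩ := h25S
  rw [hQ, hCu, hc] at hcardQ
  omega

theorem base5_of_cfg24 : Base5 D := by
  have hD := hG.lay.tt
  haveI := loc_finite hD d
  haveI := gen_loc24 hG
  obtain ⟨h1, h2⟩ := data23_five hG.loc
  exact ⟨base24 hG, (base24 hG).env hG.mem (by norm_num) (by norm_num) (by norm_num) h1,
    h2.everywhere hD hG.lay.one hG.mem, fun a ha e he x hx => comp24 hG ha he hx, hG.three,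
    fun a ha e he b hb => stab24 hG ha he hb⟩

theorem env_eleven : ∃ nC, nC ∣ 88 ∧ Env D 306936 31671 3510 3240 351 11 2 440 nC := by
  have hD := hG.lay.tt
  haveI := loc_finite hD d
  haveI := gen_loc24 hG
  obtain ⟨nC, hn, h⟩ := data23_eleven hG.loc
  exact ⟨nC, hn, (base24 hG).env hG.mem (by norm_num) (by norm_num) (by norm_num) h⟩

end Cfsg.Agent.TT95N
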