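import Cfsg.Agent.TT95N.Refl7
import Cfsg.Agent.S0288

/-!
The order of the projective reflection group of a six-dimensional orthogonal space of discriminant one over
three elements.
-/

set_option autoImplicit false
set_option linter.unusedSectionVars false

namespace Cfsg.Agent.TT95N

open QuadraticMap Cfsg.Agent.Reflections

local notation "K" => ZMod 3

/-- An orthogonal basis of norm `c`, by the discriminant. -/
theorem exists_norm_basis6 {c : K} (hc : c ≠ 0) {Q : QuadraticForm K (Fin 6 → K)}
    (hQ : Q.polarBilin.Nondegenerate) (hμ : Cfsg.polarGramDet (⇑Q) = 1) :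
    ∃ e : Fin 6 → Fin 6 → K, (∀ i j, i ≠ j → polar ⇑Q (e i) (e j) = 0) ∧ ∀ i, Q (e i) = c := by
  classical
  have h2 : (2 : K) ≠ 0 := by decide
  have hp : ∀ k, k ≤ 5 → ∃ p : Fin k → Fin 6 → K, (∀ i j, i ≠ j → polar ⇑Q (p i) (p j) = 0) ∧
      ∀ i, Q (p i) = c := by
    intro k
    induction k with
    | zero => exact fun _ => ⟨Fin.elim0, fun i => i.elim0, fun i => i.elim0⟩
    | succ k ih =>
      intro hk
      obtain ⟨p, ho, hv⟩ := ih (by omega)
      have hne : ∀ i, Q (p i) ≠ 0 := fun i => by rw [hv]; exact hc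
      obtain ⟨x, hx, hxp⟩ := exists_value_orth h2 hQ (li_of_orth p ho hne) (span_rad p ho hne)
        (by simp; omega) c
      refine ⟨Fin.cons x p, ?_, Fin.cases hx (by simpa using hv)⟩
      intro i j hij
      induction i using Fin.cases with
      | zero =>
        induction j using Fin.cases with
        | zero => exact absurd rfl hij
        | succ j => simp only [Fin.cons_zero, Fin.cons_succ]; rw [polar_comm]; exact hxp j
      | succ i =>
        induction j using Fin.cases with
        | zero => simp only [Fin.cons_zero, Fin.cons_succ]; exact hxp i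
        | succ j => simp only [Fin.cons_succ]; exact ho i j fun h => hij (by rw [h])
  obtain ⟨p, ho, hv⟩ := hp 5 le_rfl
  have hne : ∀ i, Q (p i) ≠ 0 := fun i => by rw [hv]; exact hc
  obtain ⟨x, hx0, hx⟩ := exists_orth Q p (by simp)
  have hnot : x ∉ Submodule.span K (Set.range p) := fun h => hx0 (span_rad p ho hne x h hx)
  have hli := li_cons (li_of_orth p ho hne) hnot
  set e : Fin 6 → Fin 6 → K := Fin.cons x p with he
  have hoe : ∀ i j, i ≠ j → polar ⇑Q (e i) (e j) = 0 := by
    intro i j hij
    induction i using Fin.cases with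
    | zero =>
      induction j using Fin.cases with
      | zero => exact absurd rfl hij
      | succ j => simp only [he, Fin.cons_zero, Fin.cons_succ]; rw [polar_comm]; exact hx j
    | succ i =>
      induction j using Fin.cases with
      | zero => simp only [he, Fin.cons_zero, Fin.cons_succ]; exact hx i
      | succ j => simp only [he, Fin.cons_succ]; exact ho i j fun h => hij (by rw [h])
  set M : Matrix (Fin 6) (Fin 6) K := Matrix.of e
  set A : Matrix (Fin 6) (Fin 6) K := LinearMap.toMatrix₂' K Q.polarBilin with hA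
  have hdetA : A.det = 1 := by
    rw [← hμ]
    refine congrArg Matrix.det (Matrix.ext fun i j => ?_)
    rw [hA, LinearMap.toMatrix₂'_apply]
    rfl
  have hform : M * A * M.transpose = Matrix.diagonal fun i => 2 * Q (e i) := by
    refine Matrix.ext fun i j => ?_
    have hb : (M * A * M.transpose) i j = polar ⇑Q (e i) (e j) := by
      show _ = Q.polarBilin (e i) (e j)
      conv_rhs => rw [show Q.polarBilin = Matrix.toLinearMap₂' K A by rw [hA, Matrix.toLinearMap₂'_toMatrix']]
      rw [Matrix.toLinearMap₂'_apply', Matrix.mul_assoc]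
      rfl
    rw [hb]
    by_cases h : i = j
    · subst h; rw [Matrix.diagonal_apply_eq, polar_self']
    · rw [Matrix.diagonal_apply_ne _ h, hoe i j h]
  have hM : M.det ≠ 0 := by
    have : IsUnit M := Matrix.linearIndependent_rows_iff_isUnit.1 hli
    exact (Matrix.isUnit_iff_isUnit_det M).1 this |>.ne_zero
  have hd := congrArg Matrix.det hform
  rw [Matrix.det_mul, Matrix.det_mul, Matrix.det_transpose, Matrix.det_diagonal, hdetA,
    Fin.prod_univ_succ] at hd
  simp only [he, Fin.cons_zero, Fin.cons_succ, hv, Finset.prod_const, Finset.card_univ, Fintype.card_fin] at hd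
  have key : ∀ c y s : K, c ≠ 0 → s ≠ 0 → s * 1 * s = 2 * y * (2 * c) ^ 5 → y = c := by decide
  refine ⟨e, hoe, fun i => ?_⟩
  induction i using Fin.cases with
  | zero => simpa [he] using key c _ _ hc hM hd
  | succ i => simpa [he] using hv i

/-- An orthonormal frame of the standard form of minus type. -/
def frame6 : Fin 6 → ((Fin 2 ⊕ Fin 2) ⊕ Fin 2 → K) :=
  ![Sum.elim (Sum.elim ![0, 0] ![0, 0]) ![1, 0],
    Sum.elim (Sum.elim ![0, 0] ![0, 0]) ![0, 1],
    Sum.elim (Sum.elim ![1, 0] ![1, 0]) ![0, 0],
    Sum.elim (Sum.elim ![0, 1] ![0, 1]) ![0, 0],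
    Sum.elim (Sum.elim ![1, 1] ![2, 2]) ![0, 0],
    Sum.elim (Sum.elim ![1, 2] ![2, 1]) ![0, 0]]

theorem frame6_data : (∀ i, Cfsg.quadFormMinus 2 K 0 1 (frame6 i) = 1) ∧
    ∀ i j, i ≠ j → Cfsg.quadFormMinus 2 K 0 1 (frame6 i + frame6 j) = 2 := by
  decide +kernel

theorem card_isometry6 {c : K} (hc : c ≠ 0) {Q : QuadraticForm K (Fin 6 → K)} (e : Fin 6 → Fin 6 → K)
    (ho : ∀ i j, i ≠ j → polar ⇑Q (e i) (e j) = 0) (hv : ∀ i, Q (e i) = c) :
    Nat.card (Cfsg.isometryGroup K ⇑Q) = 26127360 := by
  classical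
  set Q' := UnitaryOrthogonal.qMinus 2 K 0 1 with hQ'
  have hap : ∀ v, Q' v = Cfsg.quadFormMinus 2 K 0 1 v := UnitaryOrthogonal.qMinus_apply 2 0 1
  obtain ⟨hfv, hfp⟩ := frame6_data
  have hfo : ∀ i j, i ≠ j → polar ⇑Q' (frame6 i) (frame6 j) = 0 := fun i j hij => by
    rw [polar, hap, hap, hap, hfp i j hij, hfv, hfv]
    decide
  have li1 := li_of_orth (Q := Q) e ho (fun i => by rw [hv]; exact hc)
  have li2 := li_of_orth (Q := Q') frame6 hfo (fun i => by rw [hap, hfv]; decide)
  let bE := basisOfLinearIndependentOfCardEqFinrank li1 (by simp)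
  let bF := basisOfLinearIndependentOfCardEqFinrank li2 (by simp)
  let φ := bE.equiv bF (Equiv.refl _)
  have hφ : ∀ x, Cfsg.quadFormMinus 2 K 0 1 (φ x) = c * Q x := by
    intro x
    have hx : x = ∑ i, bE.repr x i • e i := by
      conv_lhs => rw [← bE.sum_repr x]
      simp [bE]
    have hφe : ∀ i, φ (e i) = frame6 i := fun i => by
      have := bE.equiv_apply i bF (Equiv.refl _)
      simpa [bE, bF, φ] using this
    rw [← hap]
    conv_lhs => rw [hx, map_sum]
    simp only [map_smul, hφe]
    rw [orth_sum_value frame6 hfo]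
    conv_rhs => rw [hx, orth_sum_value e ho, Finset.mul_sum]
    refine Finset.sum_congr rfl fun i _ => ?_
    rw [hap, hfv, hv]
    have : ∀ c a : K, c ≠ 0 → a * a * 1 = c * (a * a * c) := by decide
    exact this c _ hc
  obtain ⟨E⟩ := isometry_similar φ hc hφ
  have hab : ∀ z₁ z₂ : K, z₁ ^ 2 + 0 * z₁ * z₂ + 1 * z₂ ^ 2 = 0 → z₁ = 0 ∧ z₂ = 0 := by clear * -; decide
  haveI : Fact (Nat.Prime 3) := ⟨by norm_num⟩
  have h := S0288.result (F := K) (q := 3) (ZMod.card 3) 3 (by norm_num) 0 1 hab
  rw [Nat.card_congr E.toEquiv, h]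
  norm_num [Finset.prod_range_succ]

/-- The projective reflection group has order `6531840`. -/
theorem card_proj_refl6 {X : Type*} [Group X] {c : K} (hc : c ≠ 0)
    (h : Cfsg.IsProjReflectionGroupModThree X 6 1 c) : Nat.card X = 6531840 := by
  classical
  obtain ⟨Q, hQ, hμ, ⟨eX⟩⟩ := h
  obtain ⟨e, ho, hv⟩ := exists_norm_basis6 hc hQ hμ
  have h2 : (2 : K) ≠ 0 := by decide
  have hne : ∀ i, Q (e i) ≠ 0 := fun i => by rw [hv]; exact hc
  set R := Cfsg.reflectionSubgroup (⇑Q) c with hR
  have hidx : R.index = 2 := FischerSpace.ReflThree.index_two (n := 6) (by norm_num) hQ hc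
  have hcardR : Nat.card R * 2 = 26127360 := by
    rw [← hidx, Subgroup.card_mul_index, card_isometry6 hc e ho hv]
  have hrefl : ∀ v, Q v = c → refl Q v ∈ R := fun v hvc =>
    Subgroup.subset_closure (mat_refl (hvc ▸ hc) |> fun h => ⟨v, hvc, h⟩)
  -- minus the identity
  obtain ⟨z, hz, -⟩ := exists_mat_neg_one (Q := Q) h2 e rfl ho hne
  have hzx : ∀ x, act z x = -x := fun x => by rw [act, hz, Matrix.neg_mulVec, Matrix.one_mulVec]
  have li : LinearIndependent K e := li_of_orth e ho hne
  let b := basisOfLinearIndependentOfCardEqFinrank li (by simp)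
  have hbe : ∀ i, b i = e i := fun i => by simp [b]
  have hext : ∀ g g' : Cfsg.isometryGroup K ⇑Q, (∀ i, act g (e i) = act g' (e i)) → g = g' := by
    intro g g' hgg
    refine isom_ext fun x => ?_
    have hx : x = ∑ i, b.repr x i • e i := by
      conv_lhs => rw [← b.sum_repr x]
      simp [hbe]
    rw [act, act, hx, Matrix.mulVec_sum, Matrix.mulVec_sum]
    refine Finset.sum_congr rfl fun i _ => ?_
    rw [Matrix.mulVec_smul, Matrix.mulVec_smul]
    exact congrArg _ (hgg i)
  have hzr : z = refl Q (e 0) * refl Q (e 1) * refl Q (e 2) * refl Q (e 3) * refl Q (e 4) * refl Q (e 5) := by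
    refine hext _ _ fun i => ?_
    rw [hzx]
    simp only [act_mul]
    have f : ∀ j k, j ≠ k → act (refl Q (e j)) (e k) = e k := fun j k h => refl_fix (hne j) (ho j k h)
    have f' : ∀ j k, j ≠ k → act (refl Q (e j)) (-e k) = -e k := fun j k h => by rw [act_neg, f j k h]
    fin_cases i <;> simp [f, f', refl_self (hne _)]
  have hzR : z ∈ R := by
    rw [hzr]
    exact mul_mem (mul_mem (mul_mem (mul_mem (mul_mem (hrefl _ (hv 0)) (hrefl _ (hv 1))) (hrefl _ (hv 2)))
      (hrefl _ (hv 3))) (hrefl _ (hv 4))) (hrefl _ (hv 5))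
  have hcen : Subgroup.center R = Subgroup.zpowers (⟨z, hzR⟩ : R) := by
    refine le_antisymm (fun g hg => ?_) ((Subgroup.zpowers_le).2 (Subgroup.mem_center_iff.2 fun w => ?_))
    · have hsgn : ∀ v, Q v = c → act (g : Cfsg.isometryGroup K ⇑Q) v = v ∨
          act (g : Cfsg.isometryGroup K ⇑Q) v = -v := by
        intro v hvc
        have h1 := conj_refl (g : Cfsg.isometryGroup K ⇑Q) (hvc ▸ hc : Q v ≠ 0)
        have h2 : (g : Cfsg.isometryGroup K ⇑Q) * refl Q v = refl Q v * g :=
          congrArg Subtype.val (Subgroup.mem_center_iff.1 hg ⟨_, hrefl v hvc⟩).symm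
        rw [h2, mul_inv_cancel_right] at h1
        exact FischerSpace.ReflThree.refl_inj hQ (hvc ▸ hc) (by rw [act_Q]; exact hvc ▸ hc) h1
      have hs : ∀ i, ∃ s : K, (s = 1 ∨ s = -1) ∧ act (g : Cfsg.isometryGroup K ⇑Q) (e i) = s • e i := fun i => by
        rcases hsgn _ (hv i) with h | h
        · exact ⟨1, Or.inl rfl, by rw [h, one_smul]⟩
        · exact ⟨-1, Or.inr rfl, by rw [h]; module⟩
      choose s hs1 hs2 using hs
      have hsame : ∀ p q r t : Fin 6, [p, q, r, t].Nodup → s p = s q := by
        intro p q r t hnd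
        simp only [List.nodup_cons, List.mem_cons, List.not_mem_nil, or_false, not_or] at hnd
        obtain ⟨⟨npq, npr, npt⟩, ⟨nqr, nqt⟩, nrt, -⟩ := hnd
        set f : Fin 6 → K := fun i => if i = p ∨ i = q ∨ i = r ∨ i = t then 1 else 0 with hf
        have hw : Q (∑ i, f i • e i) = c := by
          rw [orth_sum_value e ho]
          simp only [hv, hf]
          have : ∀ p q r t : Fin 6, p ≠ q → p ≠ r → p ≠ t → q ≠ r → q ≠ t → r ≠ t → ∀ c : K,
              (∑ i : Fin 6, (if i = p ∨ i = q ∨ i = r ∨ i = t then (1 : K) else 0) *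
                (if i = p ∨ i = q ∨ i = r ∨ i = t then (1 : K) else 0) * c) = c := by decide +kernel
          exact this p q r t npq npr npt nqr nqt nrt c
        have hact : act (g : Cfsg.isometryGroup K ⇑Q) (∑ i, f i • e i) = ∑ i, (s i * f i) • e i := by
          rw [act, Matrix.mulVec_sum]
          refine Finset.sum_congr rfl fun i _ => ?_
          rw [Matrix.mulVec_smul]
          show f i • act (g : Cfsg.isometryGroup K ⇑Q) (e i) = _
          rw [hs2, smul_smul, mul_comm]
        have hcoef : ∀ a a' : Fin 6 → K, ∑ i, a i • e i = ∑ i, a' i • e i → ∀ i, a i = a' i := fun a a' h i =>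
          Fintype.linearIndependent_iffₛ.1 li a a' h i
        rcases hsgn _ hw with h | h <;> rw [hact] at h
        · have e1 := hcoef _ _ h p
          have e2 := hcoef _ _ h q
          simp [hf] at e1 e2
          rw [e1, e2]
        · rw [← Finset.sum_neg_distrib] at h
          simp only [← neg_smul] at h
          have e1 := hcoef _ _ h p
          have e2 := hcoef _ _ h q
          simp [hf] at e1 e2
          rw [e1, e2]
      have hall : ∀ i, s i = s 0 := by
        intro i
        by_cases h : i = 0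
        · rw [h]
        · obtain ⟨r, t, hnd⟩ : ∃ r t : Fin 6, [i, 0, r, t].Nodup := by
            revert i; decide
          exact hsame i 0 r t hnd
      rcases hs1 0 with h | h
      · have : g = 1 := Subtype.ext (hext _ _ fun i => by rw [hs2, hall, h, one_smul]; simp)
        rw [this]; exact one_mem _
      · have : g = ⟨z, hzR⟩ := Subtype.ext (hext _ _ fun i => by rw [hs2, hall, h, hzx]; module)
        rw [this]; exact Subgroup.mem_zpowers _
    · refine Subtype.ext (isom_ext fun x => ?_)
      show act ((w : Cfsg.isometryGroup K ⇑Q) * z) x = act (z * (w : Cfsg.isometryGroup K ⇑Q)) x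
      rw [act_mul, act_mul, hzx, hzx, act_neg]
  have hz2 : orderOf (⟨z, hzR⟩ : R) = 2 := by
    refine orderOf_eq_prime ?_ fun h => ?_
    · rw [pow_two]; refine Subtype.ext (isom_ext fun x => ?_)
      show act (z * z) x = act 1 x
      rw [act_mul, hzx, hzx, neg_neg, act_one]
    · have h0 := congrArg (fun g : R => act (g : Cfsg.isometryGroup K ⇑Q) (e 0)) h
      simp only [hzx, OneMemClass.coe_one, act_one] at h0
      have : (2 : K) • e 0 = 0 := by
        have e2 : e 0 + e 0 = 0 := by conv_lhs => arg 1; rw [← h0]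
                                      exact neg_add_cancel _
        rw [two_smul]; exact e2
      rcases smul_eq_zero.1 this with h' | h'
      · exact h2 h'
      · exact (li.ne_zero 0) h'
  have hsplit := Subgroup.card_eq_card_quotient_mul_card_subgroup (Subgroup.center R)
  rw [hcen, Nat.card_zpowers, hz2] at hsplit
  rw [Nat.card_congr eX.toEquiv]
  rw [← hR] at *
  rw [hcen]
  omega

end Cfsg.Agent.TT95N
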