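import Cfsg.Agent.TT95N.Env
import Cfsg.Agent.TT95.Index23

/-!
Type M(24): the members fixed by a subgroup of order 11, 17 or 23 and the normalisers of these subgroups,
from the same facts in the local group.
-/

set_option autoImplicit false
set_option linter.unusedSectionVars false

namespace Cfsg.Agent.TT95N

open Cfsg.Agent.TT95

/-- What is used of type M(24). -/
structure Base24 {G : Type*} [Group G] (D : Set G) : Prop where
  lay : Lay D 306936 31671 3510 3240 351
  cent : ∀ a ∈ D, Subgroup.centralizer ({a} : Set G) = Subgroup.closure (nb D a)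
  card : Nat.card G = 306936 * (2 * 4089470473293004800)

variable {G : Type*} [Group G] [Finite G] {D : Set G}

theorem Base24.far_card (hB : Base24 D) {a : G} (ha : a ∈ D) : (far D a).ncard = 275264 := by
  have := hB.lay.card_split ha (Set.toFinite _)
  omega

theorem Base24.card_cent (hB : Base24 D) {a : G} (ha : a ∈ D) :
    Nat.card (Subgroup.centralizer ({a} : Set G)) = 2 * 4089470473293004800 := by
  have h := card_group hB.lay ha (hB.cent a ha)
  rw [hB.card] at h
  rw [hB.cent a ha, card_closure_nb hB.lay ha (hB.cent a ha)]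
  omega

theorem Base24.far_conj (hB : Base24 D) {a : G} (ha : a ∈ D) : ∀ e ∈ far D a, ∀ e' ∈ far D a,
    ∃ g ∈ Subgroup.centralizer ({a} : Set G), g * e * g⁻¹ = e' := fun e he e' he' => by
  obtain ⟨g, hga, hge⟩ := hB.lay.farPairs a e a e' ha he ha he'
  exact ⟨g, mem_cent_singleton_iff.2 hga, hge⟩

/-- The data of type M(23) for a prime `p`. -/
theorem Base24.env (hB : Base24 D) {d : G} (hd : d ∈ D) {p f nN nC : ℕ} (hp : p.Prime) (hp2 : p ≠ 2)
    (hpn : ¬ p ∣ 306936) (h : PData (locSet D d) p f nN nC) : Env D 306936 31671 3510 3240 351 p f nN nC :=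
  ⟨hB.lay, hB.cent, hp, hp2, hpn, h.everywhere hB.lay.tt hB.lay.one hd⟩

variable (hB : Base24 D) {p f nN nC : ℕ} (hV : Env D 306936 31671 3510 3240 351 p f nN nC)
  (hpfar : p ∣ 275264) (hpp : ¬ p * p ∣ 2 * 4089470473293004800) {X : Subgroup G} (hX : Nat.card X = p)

include hB hV hpfar hpp hX

/-- All fixed members commute with a given one. -/
theorem fix_eq {a : G} (ha : a ∈ fixSet D X) : fixSet D X = insert a (fixSet D X ∩ nb D a) := by
  ext x
  refine ⟨fun hx => ?_, fun hx => hx.elim (fun e => e ▸ ha) fun h => h.1⟩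
  rcases mem_nb_or_far (a := a) hx.1 with h | h | h
  · exact Or.inl h
  · exact Or.inr ⟨hx, h⟩
  · exact absurd hx (far_not_fix hB.lay.tt ha.1 hX (hV.le_cent ha) (hB.far_conj ha.1) (hB.far_card ha.1) hpfar
      (by rw [hB.card_cent ha.1]; exact hpp) h)

theorem fix_ncard : (fixSet D X).ncard = f + 1 := by
  obtain ⟨a, ha⟩ := hV.fix_nonempty hX
  rw [fix_eq hB hV hpfar hpp hX ha, Set.ncard_insert_of_notMem (fun h => h.2.2.1 rfl) (Set.toFinite _),
    hV.ncard_fix_nb hX ha]

theorem fix_commute : ∀ x ∈ fixSet D X, ∀ y ∈ fixSet D X, Commute x y := by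
  intro x hx y hy
  rw [fix_eq hB hV hpfar hpp hX hx] at hy
  rcases hy with rfl | hy
  · exact Commute.refl _
  · exact hy.2.2.2

omit hB hV hpfar hpp hX

/-- A member of `D` is outside a derived subgroup of index two. -/
theorem notMem_commutator (hgen : Subgroup.closure D = ⊤) (hone : OneClass D) (hidx : (commutator G).index = 2)
    {d : G} (hd : d ∈ D) : d ∉ commutator G := by
  intro h
  have : (⊤ : Subgroup G) ≤ commutator G := by
    rw [← hgen, Subgroup.closure_le]
    intro x hx
    obtain ⟨g, rfl⟩ := hone d hd x hx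
    exact (inferInstance : (commutator G).Normal).conj_mem d h g
  rw [top_le_iff.1 this, Subgroup.index_top] at hidx
  exact absurd hidx (by norm_num)

theorem two_mul_card_inf {L K : Subgroup G} [L.Normal] (hidx : L.index = 2) (hK : ¬ K ≤ L) :
    2 * Nat.card (L ⊓ K : Subgroup G) = Nat.card K := by
  have h := (L.subgroupOf K).card_mul_index
  have h2 : L.relIndex K = 2 := by
    rcases Nat.prime_two.eq_one_or_self_of_dvd _ (hidx ▸ Subgroup.relIndex_dvd_index_of_normal L K) with h1 | h1
    · exact absurd (Subgroup.relIndex_eq_one.1 h1) hK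
    · exact h1
  rw [← Subgroup.inf_subgroupOf_right,
    Nat.card_congr (Subgroup.subgroupOfEquivOfLe inf_le_right).toEquiv, Subgroup.inf_subgroupOf_right] at h
  rw [← h, show (L.subgroupOf K).index = 2 from h2, mul_comm]

include hB hV hpfar hpp hX

/-- One fixed member: the normaliser in the derived subgroup is a Frobenius group. -/
theorem one_member (hf : f = 0) (hC : nC = p) (hgen : Subgroup.closure D = ⊤)
    (hidx : (commutator G).index = 2) :
    (fixSet D X).ncard = 1 ∧ Nat.card (commutator G ⊓ Subgroup.normalizer (X : Set G) : Subgroup G) = nN ∧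
      X ≤ commutator G ∧ commutator G ⊓ Subgroup.centralizer (X : Set G) = X := by
  have h1 : (fixSet D X).ncard = 1 := by rw [fix_ncard hB hV hpfar hpp hX, hf]
  obtain ⟨a, ha⟩ := hV.fix_nonempty hX
  have hnot := notMem_commutator hgen hB.lay.one hidx ha.1
  have hN : (⟨a, ha⟩ : fixSet D X).1 ∈ Subgroup.normalizer (X : Set G) :=
    Subgroup.centralizer_le_normalizer _ ha.2
  have hXL : X ≤ commutator G := by
    intro x hx
    obtain ⟨y, -, rfl⟩ := exists_sq hV.prime hV.odd hX hx
    exact Subgroup.mul_self_mem_of_index_two hidx y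
  refine ⟨h1, ?_, hXL, ?_⟩
  · have h := two_mul_card_inf hidx (K := Subgroup.normalizer (X : Set G)) fun h => hnot (h hN)
    rw [hV.card_norm hX, h1] at h
    omega
  · have hCa : Subgroup.centralizer (X : Set G) ≤ Subgroup.centralizer ({a} : Set G) := by
      intro g hg
      have hga := conj_mem_fixSet hB.lay.tt (Subgroup.centralizer_le_normalizer _ hg) ha
      obtain ⟨u, hu⟩ := Set.ncard_eq_one.1 h1
      rw [hu] at hga ha
      exact mem_cent_singleton_iff.2 ((Set.mem_singleton_iff.1 hga).trans (Set.mem_singleton_iff.1 ha).symm)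
    have h := two_mul_card_inf hidx (K := Subgroup.centralizer (X : Set G)) fun h => hnot (h ha.2)
    rw [← inf_eq_left.2 hCa, hV.card_cent_inf hX ha, inf_eq_left.2 hCa, hC] at h
    refine (Subgroup.eq_of_le_of_card_ge (le_inf hXL fun x hx => Subgroup.mem_centralizer_iff.2 fun y hy => ?_) ?_).symm
    · haveI : Fact p.Prime := ⟨hV.prime⟩
      haveI : IsCyclic X := isCyclic_of_prime_card hX
      letI := IsCyclic.commGroup (α := X)
      exact congrArg Subtype.val (mul_comm (⟨y, hy⟩ : X) ⟨x, hx⟩)
    · omega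

end Cfsg.Agent.TT95N
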