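import Cfsg.Agent.TT95N.Near
import Cfsg.Agent.TT95N.Odd24
import Cfsg.Agent.TT95.Components

/-!
Type M(24): the members fixed by a subgroup of order 5 among the common neighbours of two noncommuting
members are fifteen.
-/

set_option autoImplicit false
set_option linter.unusedSectionVars false

namespace Cfsg.Agent.TT95N

open Cfsg.Agent.TT95

variable {G : Type*} [Group G] [Finite G] {D : Set G}

/-- What is used of type M(24) for the prime 5. -/
structure Base5 {G : Type*} [Group G] (D : Set G) : Prop where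
  base : Base24 D
  env : Env D 306936 31671 3510 3240 351 5 21 100800 25200
  sym : ∀ a ∈ D, HasSym (locSet D a) 5 7
  comp : ∀ a ∈ D, ∀ e ∈ far D a, ∀ x ∈ common D a e, (comp (common D a e) x).ncard = 1080
  three : ∀ a ∈ D, ∀ e ∈ far D a, (comps (common D a e)).ncard = 3
  stab : ∀ a ∈ D, ∀ e ∈ far D a, ∀ b ∈ common D a e,
    ¬ 25 ∣ Nat.card (Subgroup.centralizer ({a, e, b} : Set G))

set_option synthInstance.maxSize 4096 in
theorem six_near : ∀ p i j k l : Fin 7, i < j → k < l → i ≠ p → j ≠ p → k ≠ p → l ≠ p →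
    (i = k ∧ j = l) ∨ (i ≠ k ∧ i ≠ l ∧ j ≠ k ∧ j ≠ l) ∨
      ∃ r s : Fin 7, r < s ∧ r ≠ p ∧ s ≠ p ∧ i ≠ r ∧ i ≠ s ∧ j ≠ r ∧ j ≠ s ∧ k ≠ r ∧ k ≠ s ∧ l ≠ r ∧ l ≠ s := by
  decide +kernel

variable (h5 : Base5 D)

include h5

/-- A nonempty fixed part of the common neighbours. -/
theorem fix_common {P : Subgroup G} (hP : Nat.card P = 5) {a e : G} (ha : a ∈ fixSet D P) (he : e ∈ fixSet D P)
    (hfar : e ∈ far D a) (hne : (fixSet D P ∩ common D a e).Nonempty) :
    (fixSet D P ∩ common D a e).ncard = 15 ∧ ∃ (ψ : Equiv.Perm (Fin 7) →* G) (p : Fin 7),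
      Function.Injective ψ ∧ ψ '' swaps 7 = fixSet D P ∩ nb D a ∧
      ψ '' {t | t ∈ swaps 7 ∧ t p = p} = fixSet D P ∩ common D a e := by
  classical
  have hD := h5.base.lay.tt
  obtain ⟨ψ, hψ, himg⟩ := exists_sym_nb (m := 6) h5.env h5.sym (by norm_num) hP ha
  have hmem : ∀ σ ∈ swaps 7, ψ σ ∈ fixSet D P ∩ nb D a := fun σ hσ => himg.le ⟨σ, hσ, rfl⟩
  set C : Set (Equiv.Perm (Fin 7)) := {σ | σ ∈ swaps 7 ∧ ψ σ ∈ nb D e} with hC
  have himgC : ψ '' C = fixSet D P ∩ common D a e := by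
    ext x
    constructor
    · rintro ⟨σ, ⟨hσ, hσe⟩, rfl⟩
      exact ⟨(hmem σ hσ).1, (hmem σ hσ).2, hσe⟩
    · intro hx
      obtain ⟨σ, hσ, rfl⟩ := himg.ge ⟨hx.1, hx.2.1⟩
      exact ⟨σ, ⟨hσ, hx.2.2⟩, rfl⟩
  have hne' : C.Nonempty := by
    rw [← himgC] at hne
    exact hne.of_image
  have hdeg : ∀ σ ∈ C, {τ | τ ∈ C ∧ τ ≠ σ ∧ Commute σ τ}.ncard = 6 := by
    intro σ hσ
    set b := ψ σ with hb
    have hbF : b ∈ fixSet D P := (hmem σ hσ.1).1
    have hab : a ∈ nb D b := mem_nb_comm ha.1 (hmem σ hσ.1).2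
    have heb : e ∈ nb D b := mem_nb_comm he.1 hσ.2
    obtain ⟨ψb, hψb, himgb⟩ := exists_sym_nb (m := 6) h5.env h5.sym (by norm_num) hP hbF
    obtain ⟨u, hu, eu⟩ := himgb.ge ⟨ha, hab⟩
    obtain ⟨v, hv, ev⟩ := himgb.ge ⟨he, heb⟩
    have huv : ¬ Commute u v := fun h => hfar.2 (by rw [← eu, ← ev]; exact h.map ψb)
    have hset : ψ '' {τ | τ ∈ C ∧ τ ≠ σ ∧ Commute σ τ} =
        ψb '' {w | w ∈ swaps 7 ∧ w ≠ u ∧ w ≠ v ∧ Commute u w ∧ Commute v w} := by
      ext x
      constructor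
      · rintro ⟨τ, ⟨hτ, hne, hc⟩, rfl⟩
        have hxb : ψ τ ∈ fixSet D P ∩ nb D b :=
          ⟨(hmem τ hτ.1).1, (hmem τ hτ.1).1.1, fun h => hne (hψ h), hc.map ψ⟩
        obtain ⟨w, hw, ew⟩ := himgb.ge hxb
        have n1 : w ≠ u := fun h => (hmem τ hτ.1).2.2.1 (by rw [← ew, h, eu])
        have n2 : w ≠ v := fun h => hτ.2.2.1 (by rw [← ew, h, ev])
        refine ⟨w, ⟨hw, n1, n2, ?_, ?_⟩, ew⟩
        · rw [← commute_map_iff hψb, eu, ew]; exact (hmem τ hτ.1).2.2.2
        · rw [← commute_map_iff hψb, ev, ew]; exact hτ.2.2.2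
      · rintro ⟨w, ⟨hw, n1, n2, c1, c2⟩, rfl⟩
        obtain ⟨hwF, hwb⟩ := himgb.le ⟨w, hw, rfl⟩
        have hxa : ψb w ∈ nb D a := ⟨hwF.1, fun h => n1 (hψb (h.trans eu.symm)), by
          rw [← eu]; exact c1.map ψb⟩
        have hxe : ψb w ∈ nb D e := ⟨hwF.1, fun h => n2 (hψb (h.trans ev.symm)), by
          rw [← ev]; exact c2.map ψb⟩
        obtain ⟨τ, hτ, eτ⟩ := himg.ge ⟨hwF, hxa⟩
        refine ⟨τ, ⟨⟨hτ, eτ.symm ▸ hxe⟩, fun h => hwb.2.1 (by rw [← eτ, h]), ?_⟩, eτ⟩
        rw [← commute_map_iff hψ, eτ]; exact hwb.2.2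
    rw [← Set.ncard_image_of_injective _ hψ, hset, Set.ncard_image_of_injective _ hψb]
    exact ncard_common_seven hu hv huv
  obtain ⟨h15, p, hp⟩ := seven_closed C (fun σ hσ => hσ.1) (fun σ hσ τ hτ => by
      refine ⟨?_, ?_⟩
      · obtain ⟨i, j, hij, rfl⟩ := hτ.1
        exact ⟨σ i, σ j, σ.injective.ne hij, (Equiv.swap_apply_apply σ i j).symm⟩
      · rw [map_mul, map_mul, map_inv, inv_eq hD (hmem σ hσ.1).1.1]
        exact (nb_closed hD e).2 _ hσ.2 _ hτ.2) hne' hdeg
  refine ⟨?_, ψ, p, hψ, himg, by rw [← hp]; exact himgC⟩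
  rw [← himgC, Set.ncard_image_of_injective _ hψ, h15]

/-- A fixed part lies in one component. -/
theorem fix_common_path {P : Subgroup G} (hP : Nat.card P = 5) {a e : G} (ha : a ∈ fixSet D P)
    (he : e ∈ fixSet D P) (hfar : e ∈ far D a) {x y : G} (hx : x ∈ fixSet D P ∩ common D a e)
    (hy : y ∈ fixSet D P ∩ common D a e) : Path (common D a e) x y := by
  obtain ⟨-, ψ, p, hψ, himg, hC⟩ := fix_common h5 hP ha he hfar ⟨x, hx⟩
  obtain ⟨u, ⟨hu, hup⟩, rfl⟩ := hC.ge hx
  obtain ⟨v, ⟨hv, hvp⟩, rfl⟩ := hC.ge hy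
  obtain ⟨i, j, hij, rfl⟩ := swap_rep hu
  obtain ⟨k, l, hkl, rfl⟩ := swap_rep hv
  have fixes : ∀ i j : Fin 7, i < j → Equiv.swap i j p = p → i ≠ p ∧ j ≠ p := fun i j hij h => by
    refine ⟨fun e => ?_, fun e => ?_⟩
    · subst e; rw [Equiv.swap_apply_left] at h; exact hij.ne' h
    · subst e; rw [Equiv.swap_apply_right] at h; exact hij.ne h
  obtain ⟨h1, h2⟩ := fixes i j hij hup
  obtain ⟨h3, h4⟩ := fixes k l hkl hvp
  have comm : ∀ i j k l : Fin 7, i < j → k < l → (i ≠ k ∧ i ≠ l ∧ j ≠ k ∧ j ≠ l) →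
      Commute (ψ (Equiv.swap i j)) (ψ (Equiv.swap k l)) := fun i j k l a b c =>
    Commute.map ((commute_swap_iff i j k l a b).2 (Or.inr c)) ψ
  rcases six_near p i j k l hij hkl h1 h2 h3 h4 with ⟨rfl, rfl⟩ | h | ⟨r, s, hrs, hr, hs, a1, a2, a3, a4, b1, b2, b3, b4⟩
  · exact .refl
  · exact Path.single' hx.2 hy.2 (comm i j k l hij hkl h)
  · have hz : ψ (Equiv.swap r s) ∈ fixSet D P ∩ common D a e :=
      hC.le ⟨_, ⟨⟨r, s, hrs.ne, rfl⟩, Equiv.swap_apply_of_ne_of_ne hr.symm hs.symm⟩, rfl⟩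
    exact (Path.single' hx.2 hz.2 (comm i j r s hij hrs ⟨a1, a2, a3, a4⟩)).trans'
      (Path.single' hz.2 hy.2 (comm k l r s hkl hrs ⟨b1, b2, b3, b4⟩).symm)

omit h5

/-- A set on which a group acts freely by conjugation has size divisible by its order. -/
theorem card_dvd_of_free (T : Subgroup G) : ∀ (W : Set G), (∀ t ∈ T, ∀ w ∈ W, t * w * t⁻¹ ∈ W) →
    (∀ t ∈ T, ∀ w ∈ W, t * w * t⁻¹ = w → t = 1) → Nat.card T ∣ W.ncard := by
  intro W
  induction hn : W.ncard using Nat.strong_induction_on generalizing W with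
  | _ m ih =>
    intro hinv hfree
    rcases W.eq_empty_or_nonempty with rfl | ⟨w, hw⟩
    · rw [← hn, Set.ncard_empty]; exact dvd_zero _
    set O := Set.range (fun t : T => (t : G) * w * (t : G)⁻¹) with hO
    have hsub : O ⊆ W := by rintro _ ⟨t, rfl⟩; exact hinv t t.2 w hw
    have hOc : O.ncard = Nat.card T := by
      rw [hO, ← Nat.card_coe_set_eq]
      refine Nat.card_range_of_injective fun u v e => Subtype.ext ?_
      have h := (conj_eq_conj_iff (g := (u : G)) (g' := (v : G)) (x := w)).1 e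
      exact inv_mul_eq_one.1 (hfree _ (mul_mem (inv_mem u.2) v.2) w hw (mem_cent_singleton_iff.1 h))
    have hpos : 0 < O.ncard := by rw [hOc]; exact Nat.card_pos
    have hsum := Set.ncard_sdiff_add_ncard_of_subset hsub (Set.toFinite _)
    rw [← hn]
    rw [← hsum]
    refine dvd_add (ih (W \ O).ncard (by omega) (W \ O) rfl ?_ ?_) (by rw [hOc])
    · intro t ht x hx
      refine ⟨hinv t ht x hx.1, ?_⟩
      rintro ⟨u, hu⟩
      exact hx.2 ⟨⟨t⁻¹ * u, mul_mem (inv_mem ht) u.2⟩, by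
        show (t⁻¹ * (u : G)) * w * (t⁻¹ * (u : G))⁻¹ = x
        rw [show (t⁻¹ * (u : G)) * w * (t⁻¹ * (u : G))⁻¹ = t⁻¹ * ((u : G) * w * (u : G)⁻¹) * t by group]
        exact (congrArg (fun y => t⁻¹ * y * t) hu).trans (by group)⟩
    · exact fun t ht x hx => hfree t ht x hx.1

include h5

/-- Every subgroup of order 5 fixing two noncommuting members fixes a common neighbour. -/
theorem fix_common_nonempty {X : Subgroup G} (hX : Nat.card X = 5) {a e : G} (ha : a ∈ fixSet D X)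
    (he : e ∈ fixSet D X) (hfar : e ∈ far D a) : (fixSet D X ∩ common D a e).Nonempty := by
  classical
  haveI : Fact (Nat.Prime 5) := ⟨by norm_num⟩
  haveI := Fintype.ofFinite G
  have hD := h5.base.lay.tt
  set St := Subgroup.centralizer ({a, e} : Set G) with hSt
  have hmemSt : ∀ g, g ∈ St ↔ g * a * g⁻¹ = a ∧ g * e * g⁻¹ = e := fun g => by
    rw [hSt, Subgroup.mem_centralizer_iff]
    simp only [Set.mem_insert_iff, Set.mem_singleton_iff, forall_eq_or_imp, forall_eq, mul_inv_eq_iff_eq_mul]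
    exact ⟨fun h => ⟨h.1.symm, h.2.symm⟩, fun h => ⟨h.1.symm, h.2.symm⟩⟩
  have hXSt : X ≤ St := fun x hx => (hmemSt x).2
    ⟨mul_inv_eq_iff_eq_mul.2 (Subgroup.mem_centralizer_iff.1 ha.2 x hx),
      mul_inv_eq_iff_eq_mul.2 (Subgroup.mem_centralizer_iff.1 he.2 x hx)⟩
  obtain ⟨T', hT'⟩ := (IsPGroup.of_card (p := 5) (n := 1) (show Nat.card (X.subgroupOf St) = 5 ^ 1 by
    rw [Nat.card_congr (Subgroup.subgroupOfEquivOfLe hXSt).toEquiv, hX, pow_one])).exists_le_sylow
  set T : Subgroup G := (T' : Subgroup St).map St.subtype with hT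
  have hXT : X ≤ T := fun x hx => ⟨⟨x, hXSt hx⟩, hT' hx, rfl⟩
  have hTSt : T ≤ St := Subgroup.map_subtype_le _
  have hSt_card : Nat.card St = 29713078886400 := by
    have h := card_eq_mul_of_fibres (fun g : Subgroup.centralizer ({a} : Set G) => (g : G) * e * (g : G)⁻¹)
      (St.subgroupOf _) (fun g g' => by
        rw [Subgroup.mem_subgroupOf, conj_eq_conj_iff, hmemSt, mem_cent_singleton_iff]
        exact ⟨fun hh => ⟨mem_cent_singleton_iff.1 (SetLike.coe_mem (g⁻¹ * g')), hh⟩, fun hh => hh.2⟩)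
    have hr : Set.range (fun g : Subgroup.centralizer ({a} : Set G) => (g : G) * e * (g : G)⁻¹) = far D a := by
      ext x
      constructor
      · rintro ⟨g, rfl⟩
        refine ⟨TT95.conj_mem hD _ he.1, fun h => hfar.2 ?_⟩
        have hg := mem_cent_singleton_iff.1 g.2
        refine (Commute.conj_iff (g : G)).1 ?_
        rw [hg]
        exact h
      · intro hx
        obtain ⟨g, hg, e'⟩ := h5.base.far_conj ha.1 e hfar x hx
        exact ⟨⟨g, hg⟩, e'⟩
    rw [hr, h5.base.far_card ha.1, h5.base.card_cent ha.1, Nat.card_congr (Subgroup.subgroupOfEquivOfLe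
      (fun g hg => mem_cent_singleton_iff.2 ((hmemSt g).1 hg).1 : St ≤ Subgroup.centralizer ({a} : Set G))).toEquiv] at h
    omega
  have hTcard : Nat.card T = 25 := by
    rw [hT, Subgroup.card_map_of_injective St.subtype_injective]
    obtain ⟨i, hi⟩ := IsPGroup.iff_card.1 T'.2
    have h1 : 5 ^ 2 ∣ Nat.card (T' : Subgroup St) := T'.pow_dvd_card_of_pow_dvd_card (by rw [hSt_card]; norm_num)
    have h2 : 5 ^ i ∣ 29713078886400 := by rw [← hi, ← hSt_card]; exact Subgroup.card_subgroup_dvd_card _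
    rw [hi] at h1 ⊢
    have h3 : i ≤ 2 := by
      by_contra h
      exact absurd ((pow_dvd_pow 5 (show 3 ≤ i by omega)).trans h2) (by norm_num)
    have h4 : 2 ≤ i := (Nat.pow_dvd_pow_iff_le_right (by norm_num)).1 h1
    rw [show i = 2 by omega]; norm_num
  -- subgroups of order five of `T`
  set A : Finset (Subgroup G) := Finset.univ.filter fun P => Nat.card P = 5 ∧ P ≤ T with hA
  have hAT : ∀ P ∈ A, Nat.card P = 5 ∧ P ≤ T := fun P hP => (Finset.mem_filter.1 hP).2
  have hXA : X ∈ A := Finset.mem_filter.2 ⟨Finset.mem_univ _, hX, hXT⟩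
  have hmeet : ∀ P Q : Subgroup G, Nat.card P = 5 → Nat.card Q = 5 → ∀ x : G, x ≠ 1 → x ∈ P → x ∈ Q → P = Q := by
    have one : ∀ P : Subgroup G, Nat.card P = 5 → ∀ x : G, x ≠ 1 → x ∈ P → Subgroup.zpowers x = P := by
      intro P hP x hx1 hx
      refine Subgroup.eq_of_le_of_card_ge ((Subgroup.zpowers_le).2 hx) ?_
      rw [Nat.card_zpowers, hP]
      have h : orderOf x ∣ 5 := by
        rw [← Subgroup.orderOf_mk x hx, ← hP]; exact orderOf_dvd_natCard _
      rcases (Nat.prime_five).eq_one_or_self_of_dvd _ h with h | h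
      · exact absurd (orderOf_eq_one_iff.1 h) hx1
      · exact h.ge
    exact fun P Q hP hQ x hx h1 h2 => (one P hP x hx h1).symm.trans (one Q hQ x hx h2)
  have hA6 : A.card ≤ 6 := by
    have hdis : (A : Set (Subgroup G)).PairwiseDisjoint fun P => (P : Set G).toFinset.erase 1 := by
      intro P hP Q hQ hne
      rw [Function.onFun, Finset.disjoint_left]
      intro x h1 h2
      simp only [Finset.mem_erase, Set.mem_toFinset, SetLike.mem_coe] at h1 h2
      exact hne (hmeet P Q (hAT P hP).1 (hAT Q hQ).1 x h1.1 h1.2 h2.2)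
    have hle : A.biUnion (fun P => (P : Set G).toFinset.erase 1) ⊆ (T : Set G).toFinset.erase 1 := by
      intro x hx
      simp only [Finset.mem_biUnion, Finset.mem_erase, Set.mem_toFinset, SetLike.mem_coe] at hx ⊢
      obtain ⟨P, hP, hx1, hxP⟩ := hx
      exact ⟨hx1, (hAT P hP).2 hxP⟩
    have hc : ∀ H : Subgroup G, ((H : Set G).toFinset.erase 1).card = Nat.card H - 1 := fun H => by
      rw [Finset.card_erase_of_mem (by simp), ← Set.ncard_eq_toFinset_card', ← Nat.card_coe_set_eq]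
      rfl
    have := Finset.card_le_card hle
    rw [Finset.card_biUnion hdis, Finset.sum_congr rfl (fun P hP => by rw [hc P, (hAT P hP).1]),
      Finset.sum_const, smul_eq_mul, hc T, hTcard] at this
    omega
  -- points in the common neighbourhood with nontrivial stabiliser
  set S := common D a e with hS
  have hfix : ∀ P ∈ A, a ∈ fixSet D P ∧ e ∈ fixSet D P := by
    intro P hP
    constructor
    · exact ⟨ha.1, Subgroup.mem_centralizer_iff.2 fun x hx =>
        mul_inv_eq_iff_eq_mul.1 ((hmemSt x).1 (hTSt ((hAT P hP).2 hx))).1⟩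
    · exact ⟨he.1, Subgroup.mem_centralizer_iff.2 fun x hx =>
        mul_inv_eq_iff_eq_mul.1 ((hmemSt x).1 (hTSt ((hAT P hP).2 hx))).2⟩
  set J : G → Finset (Subgroup G) := fun x => A.filter fun P => (fixSet D P ∩ comp S x).Nonempty with hJ
  have hsize : ∀ x ∈ S, 2 ≤ (J x).card := by
    intro x hx
    set K := comp S x with hK
    have hKinv : ∀ t ∈ T, ∀ w ∈ K, t * w * t⁻¹ ∈ K := by
      have hcl : ∀ t ∈ T, ∀ w ∈ S, t * w * t⁻¹ ∈ S := fun t ht w hw => by
        obtain ⟨ea, ee⟩ := (hmemSt t).1 (hTSt ht)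
        exact ⟨ea ▸ (nb_conj hD t a w).2 hw.1, ee ▸ (nb_conj hD t e w).2 hw.2⟩
      intro t ht w hw
      refine ⟨hcl t ht w hw.1, ?_⟩
      -- the orbit of a component under a group of order 25 among three is trivial
      have hcomp : comp S (t * x * t⁻¹) = comp S x := by
        by_contra hne
        set fC : T → Set G := fun u => comp S ((u : G) * x * (u : G)⁻¹) with hfC
        have heq : ∀ u u' : T, fC u = fC u' ↔ Path S (((u⁻¹ * u' : T) : G) * x * ((u⁻¹ * u' : T) : G)⁻¹) x := by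
          intro u u'
          rw [hfC, comp_eq_iff (hcl _ u'.2 x hx)]
          constructor
          · intro h
            have h2 := (Path.conj (T := S) hD ((u⁻¹ : T) : G) (fun w hw => hcl _ (u⁻¹).2 w hw) h).symm
            simpa [mul_assoc] using h2
          · intro h
            have h2 := (Path.conj (T := S) hD (u : G) (fun w hw => hcl _ u.2 w hw) h).symm
            simpa [mul_assoc] using h2
        let Sx : Subgroup T :=
          { carrier := {u | Path S ((u : G) * x * (u : G)⁻¹) x}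
            mul_mem' := fun {u v} hu hv => by
              have h2 := Path.conj (T := S) hD (u : G) (fun w hw => hcl _ u.2 w hw) hv
              have h3 := h2.trans' hu
              simpa [mul_assoc] using h3
            one_mem' := by
              show Path S (((1 : T) : G) * x * ((1 : T) : G)⁻¹) x
              rw [OneMemClass.coe_one, inv_one, one_mul, mul_one]
              exact .refl
            inv_mem' := fun {u} hu => by
              have h2 := (Path.conj (T := S) hD ((u⁻¹ : T) : G) (fun w hw => hcl _ (u⁻¹).2 w hw) hu).symm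
              simpa [mul_assoc] using h2 }
        have hc := card_eq_mul_of_fibres fC Sx heq
        have hsub : Set.range fC ⊆ comps S := by
          rintro _ ⟨u, rfl⟩
          exact ⟨_, hcl _ u.2 x hx, rfl⟩
        have h3 := (Set.ncard_le_ncard hsub (Set.toFinite _)).trans (h5.three a ha.1 e hfar).le
        have h2 : 2 ≤ (Set.range fC).ncard := by
          refine (Set.one_lt_ncard_iff (Set.toFinite _)).2 ⟨comp S (t * x * t⁻¹), comp S x, ⟨⟨t, ht⟩, rfl⟩, ⟨1, ?_⟩, hne⟩
          simp [hfC]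
        rw [hTcard] at hc
        have hd : (Set.range fC).ncard ∣ 25 := Dvd.intro _ hc.symm
        interval_cases h : (Set.range fC).ncard <;> omega
      have h1 := Path.conj (T := S) hD t (fun u hu => hcl t ht u hu) hw.2
      exact ((comp_eq_iff (hcl t ht x hx)).1 hcomp.symm).trans' h1
    set W := K \ ⋃ P ∈ A, fixSet D P with hW
    have hfree : ∀ t ∈ T, ∀ w ∈ W, t * w * t⁻¹ = w → t = 1 := by
      intro t ht w hw htw
      by_contra ht1
      apply hw.2
      have hord : orderOf t ∣ 25 := by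
        rw [← hTcard, ← Subgroup.orderOf_mk t ht]; exact orderOf_dvd_natCard _
      have hwb : Subgroup.zpowers t ≤ Subgroup.centralizer ({a, e, w} : Set G) := by
        rw [Subgroup.zpowers_le, Subgroup.mem_centralizer_iff]
        obtain ⟨ea, ee⟩ := (hmemSt t).1 (hTSt ht)
        rintro h (rfl | rfl | rfl)
        · exact (mul_inv_eq_iff_eq_mul.1 ea).symm
        · exact (mul_inv_eq_iff_eq_mul.1 ee).symm
        · exact (mul_inv_eq_iff_eq_mul.1 htw).symm
      have h25 : orderOf t = 5 := by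
        obtain ⟨i, hi, he'⟩ := (Nat.dvd_prime_pow Nat.prime_five).1 (show orderOf t ∣ 5 ^ 2 by norm_num; exact hord)
        interval_cases i
        · exact absurd (orderOf_eq_one_iff.1 he') ht1
        · simpa using he'
        · exfalso
          apply h5.stab a ha.1 e hfar w hw.1.1
          rw [show (25 : ℕ) = orderOf t by rw [he']; norm_num, ← Nat.card_zpowers]
          exact Subgroup.card_dvd_of_le hwb
      simp only [Set.mem_iUnion, exists_prop]
      refine ⟨Subgroup.zpowers t, Finset.mem_filter.2 ⟨Finset.mem_univ _, by rw [Nat.card_zpowers, h25],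
        Subgroup.zpowers_le.2 ht⟩, hw.1.1.1.1, Subgroup.mem_centralizer_iff.2 fun y hy => ?_⟩
      exact ((Subgroup.mem_centralizer_iff.1 (hwb hy)) w (by simp)).symm
    have hWinv : ∀ t ∈ T, ∀ w ∈ W, t * w * t⁻¹ ∈ W := by
      intro t ht w hw
      refine ⟨hKinv t ht w hw.1, fun h => hw.2 ?_⟩
      simp only [Set.mem_iUnion, exists_prop] at h ⊢
      obtain ⟨P, hP, hf⟩ := h
      refine ⟨P.map (MulAut.conj t⁻¹).toMonoidHom, Finset.mem_filter.2 ⟨Finset.mem_univ _,
        by rw [card_map_conj]; exact (hAT P hP).1, ?_⟩, hw.1.1.1.1, Subgroup.mem_centralizer_iff.2 fun y hy => ?_⟩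
      · rintro _ ⟨z, hz, rfl⟩
        exact mul_mem (mul_mem (inv_mem ht) ((hAT P hP).2 hz)) (inv_mem (inv_mem ht))
      · rw [SetLike.mem_coe, mem_map_conj] at hy
        have := Subgroup.mem_centralizer_iff.1 hf.2 _ hy
        simp only [inv_inv] at this
        have h2 := congrArg (fun z => t⁻¹ * z * t) this
        simpa [mul_assoc] using h2
    have hdvd := card_dvd_of_free T W hWinv hfree
    rw [hTcard] at hdvd
    have hK1080 : K.ncard = 1080 := h5.comp a ha.1 e hfar x hx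
    have hUK : K ∩ (⋃ P ∈ A, fixSet D P) = ⋃ P ∈ J x, fixSet D P ∩ K := by
      ext z
      simp only [hJ, Set.mem_inter_iff, Set.mem_iUnion, Finset.mem_filter, exists_prop]
      exact ⟨fun ⟨hz, P, hP, hf⟩ => ⟨P, ⟨hP, z, hf, hz⟩, hf, hz⟩, fun ⟨P, ⟨hP, _⟩, hf, hz⟩ => ⟨hz, P, hP, hf⟩⟩
    have h15 : ∀ P ∈ J x, (fixSet D P ∩ K).ncard = 15 := by
      intro P hP
      simp only [hJ, Finset.mem_filter] at hP
      obtain ⟨z, hz⟩ := hP.2
      have hzS : z ∈ fixSet D P ∩ S := ⟨hz.1, hz.2.1⟩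
      rw [← (fix_common h5 (hAT P hP.1).1 (hfix P hP.1).1 (hfix P hP.1).2 hfar ⟨z, hzS⟩).1]
      congr 1
      refine Set.Subset.antisymm (fun w hw => ⟨hw.1, hw.2.1⟩) fun w hw => ⟨hw.1, hw.2, ?_⟩
      exact hz.2.2.trans' (fix_common_path h5 (hAT P hP.1).1 (hfix P hP.1).1 (hfix P hP.1).2 hfar hzS hw)
    have hU : (K ∩ ⋃ P ∈ A, fixSet D P).ncard = 15 * (J x).card := by
      rw [hUK, Set.ncard_eq_toFinset_card']
      have hb : (⋃ P ∈ J x, fixSet D P ∩ K).toFinset = (J x).biUnion fun P => (fixSet D P ∩ K).toFinset := by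
        ext z; simp only [Set.mem_toFinset, Finset.mem_biUnion, Set.mem_iUnion, exists_prop]
      rw [hb, Finset.card_biUnion, Finset.sum_congr rfl (fun P hP => by
        rw [← Set.ncard_eq_toFinset_card', h15 P hP]), Finset.sum_const, smul_eq_mul, mul_comm]
      intro P hP Q hQ hne
      simp only [hJ, Finset.coe_filter, Set.mem_ofPred_eq] at hP hQ
      rw [Function.onFun, Finset.disjoint_left]
      intro z h1 h2
      simp only [Set.mem_toFinset] at h1 h2
      refine h5.stab a ha.1 e hfar z h1.2.1 ?_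
      rw [← hTcard]
      have hsup : T = P ⊔ Q := by
        refine (Subgroup.eq_of_le_of_card_ge (sup_le (hAT P hP.1).2 (hAT Q hQ.1).2) ?_).symm
        have hlt : P < P ⊔ Q := lt_of_le_of_ne le_sup_left fun e' => hne
          (Subgroup.eq_of_le_of_card_ge (e'.symm ▸ le_sup_right : Q ≤ P) (by rw [(hAT P hP.1).1, (hAT Q hQ.1).1])).symm
        have hd1 : Nat.card (P ⊔ Q : Subgroup G) ∣ 5 ^ 2 := by
          rw [show (5 : ℕ) ^ 2 = Nat.card T by rw [hTcard]; norm_num]
          exact Subgroup.card_dvd_of_le (sup_le (hAT P hP.1).2 (hAT Q hQ.1).2)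
        have hgt : 5 < Nat.card (P ⊔ Q : Subgroup G) := by
          rw [← (hAT P hP.1).1]
          exact lt_of_le_of_ne (Nat.le_of_dvd Nat.card_pos (Subgroup.card_dvd_of_le le_sup_left))
            fun e' => hlt.ne (Subgroup.eq_of_le_of_card_ge le_sup_left e'.ge)
        obtain ⟨i, hi, e'⟩ := (Nat.dvd_prime_pow Nat.prime_five).1 hd1
        rw [e'] at hgt ⊢
        rw [hTcard]
        have hi2 : i = 2 := by interval_cases i <;> norm_num at hgt; rfl
        rw [hi2]; norm_num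
      rw [hsup]
      refine Subgroup.card_dvd_of_le ?_
      have : ∀ R : Subgroup G, R ∈ A → z ∈ fixSet D R → R ≤ Subgroup.centralizer ({a, e, z} : Set G) := by
        intro R hR hz r hr
        rw [Subgroup.mem_centralizer_iff]
        rintro h (rfl | rfl | rfl)
        · exact (Subgroup.mem_centralizer_iff.1 (hfix R hR).1.2 r hr).symm
        · exact (Subgroup.mem_centralizer_iff.1 (hfix R hR).2.2 r hr).symm
        · exact (Subgroup.mem_centralizer_iff.1 hz.2 r hr).symm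
      exact sup_le (this P hP.1 h1.1) (this Q hQ.1 h2.1)
    have hsplit := Set.ncard_sdiff_add_ncard_of_subset (s := K ∩ ⋃ P ∈ A, fixSet D P) (t := K)
      Set.inter_subset_left (Set.toFinite _)
    rw [show K \ (K ∩ ⋃ P ∈ A, fixSet D P) = W from Set.sdiff_self_inter, hU, hK1080] at hsplit
    have hle : (J x).card ≤ 6 := (Finset.card_filter_le _ _).trans hA6
    obtain ⟨w, hw⟩ := hdvd
    omega
  -- three components
  obtain ⟨K1, K2, K3, n12, n13, n23, hK⟩ := Set.ncard_eq_three.1 (h5.three a ha.1 e hfar)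
  obtain ⟨x1, hx1, e1⟩ : K1 ∈ comps S := by rw [hS, hK]; simp
  obtain ⟨x2, hx2, e2⟩ : K2 ∈ comps S := by rw [hS, hK]; simp
  obtain ⟨x3, hx3, e3⟩ : K3 ∈ comps S := by rw [hS, hK]; simp
  have hdisJ : ∀ x y, x ∈ S → y ∈ S → comp S x ≠ comp S y → Disjoint (J x) (J y) := by
    intro x y hx hy hne
    rw [Finset.disjoint_left]
    intro P hPx hPy
    simp only [hJ, Finset.mem_filter] at hPx hPy
    obtain ⟨u, hu⟩ := hPx.2
    obtain ⟨v, hv⟩ := hPy.2
    refine hne ((comp_eq_iff hy).2 (hu.2.2.trans' ((fix_common_path h5 (hAT P hPx.1).1 (hfix P hPx.1).1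
      (hfix P hPx.1).2 hfar ⟨hu.1, hu.2.1⟩ ⟨hv.1, hv.2.1⟩).trans' hv.2.2.symm)))
  have hU3 : ((J x1 ∪ J x2) ∪ J x3).card = (J x1).card + (J x2).card + (J x3).card := by
    rw [Finset.card_union_of_disjoint, Finset.card_union_of_disjoint (hdisJ x1 x2 hx1 hx2 (by rw [e1, e2]; exact n12))]
    rw [Finset.disjoint_union_left]
    exact ⟨hdisJ x1 x3 hx1 hx3 (by rw [e1, e3]; exact n13), hdisJ x2 x3 hx2 hx3 (by rw [e2, e3]; exact n23)⟩
  have hsubA : (J x1 ∪ J x2) ∪ J x3 ⊆ A :=
    Finset.union_subset (Finset.union_subset (Finset.filter_subset _ _) (Finset.filter_subset _ _))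
      (Finset.filter_subset _ _)
  have heq : (J x1 ∪ J x2) ∪ J x3 = A := by
    refine Finset.eq_of_subset_of_card_le hsubA ?_
    have := hsize x1 hx1
    have := hsize x2 hx2
    have := hsize x3 hx3
    omega
  rw [← heq] at hXA
  simp only [hJ, Finset.mem_union, Finset.mem_filter] at hXA
  rcases hXA with (⟨-, w, hw⟩ | ⟨-, w, hw⟩) | ⟨-, w, hw⟩ <;> exact ⟨w, hw.1, hw.2.1⟩

/-- Fifteen fixed common neighbours. -/
theorem fix_common_fifteen {X : Subgroup G} (hX : Nat.card X = 5) {a e : G} (ha : a ∈ fixSet D X)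
    (he : e ∈ fixSet D X) (hfar : e ∈ far D a) :
    (fixSet D X ∩ common D a e).ncard = 15 ∧ ∃ (ψ : Equiv.Perm (Fin 7) →* G) (p : Fin 7),
      Function.Injective ψ ∧ ψ '' swaps 7 = fixSet D X ∩ nb D a ∧
      ψ '' {t | t ∈ swaps 7 ∧ t p = p} = fixSet D X ∩ common D a e :=
  fix_common h5 hX ha he hfar (fix_common_nonempty h5 hX ha he hfar)

end Cfsg.Agent.TT95N
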