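import Cfsg.Agent.TT95.LayLocal
import Cfsg.Agent.TT95.Orders

/-!
A subgroup of odd prime order acting on the commuting graph of a class of 3-transpositions: fixed members,
and descent of normaliser and centraliser to the local group.
-/

set_option autoImplicit false
set_option linter.unusedSectionVars false

namespace Cfsg.Agent.TT95N

open Cfsg.Agent.TT95

/-- What is read off in a group generated by `E` about its subgroups of order `p`. -/
structure PData {Q : Type*} [Group Q] (E : Set Q) (p f nN nC : ℕ) : Prop where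
  conj : ∀ X Y : Subgroup Q, Nat.card X = p → Nat.card Y = p →
    ∃ g : Q, X.map (MulAut.conj g).toMonoidHom = Y
  fix : ∀ X : Subgroup Q, Nat.card X = p → (E ∩ (Subgroup.centralizer (X : Set Q) : Set Q)).ncard = f
  norm : ∀ X : Subgroup Q, Nat.card X = p → Nat.card (Subgroup.normalizer (X : Set Q)) = nN
  cent : ∀ X : Subgroup Q, Nat.card X = p → Nat.card (Subgroup.centralizer (X : Set Q)) = nC
  trans : ∀ X : Subgroup Q, Nat.card X = p → ∀ x ∈ E, ∀ y ∈ E, x ∈ Subgroup.centralizer (X : Set Q) →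
    y ∈ Subgroup.centralizer (X : Set Q) → ∃ g ∈ Subgroup.normalizer (X : Set Q), g * x * g⁻¹ = y

/-- The members commuting with every element of `X`. -/
abbrev fixSet {G : Type*} [Group G] (D : Set G) (X : Subgroup G) : Set G :=
  D ∩ (Subgroup.centralizer (X : Set G) : Set G)

variable {G : Type*} [Group G]

theorem mem_map_conj {X : Subgroup G} {g x : G} :
    x ∈ X.map (MulAut.conj g).toMonoidHom ↔ g⁻¹ * x * g ∈ X := by
  constructor
  · rintro ⟨y, hy, rfl⟩
    simpa [mul_assoc] using hy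
  · intro h
    exact ⟨_, h, by simp [mul_assoc]⟩

theorem card_map_conj (X : Subgroup G) (g : G) : Nat.card (X.map (MulAut.conj g).toMonoidHom) = Nat.card X :=
  Subgroup.card_map_of_injective (MulAut.conj g).injective

theorem map_conj_conj (X : Subgroup G) (g h : G) :
    (X.map (MulAut.conj g).toMonoidHom).map (MulAut.conj h).toMonoidHom = X.map (MulAut.conj (h * g)).toMonoidHom := by
  ext x
  simp only [mem_map_conj, mul_inv_rev, mul_assoc]

theorem mem_normalizer_of_map {X : Subgroup G} {g : G} (h : X.map (MulAut.conj g).toMonoidHom = X) :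
    g ∈ Subgroup.normalizer (X : Set G) := by
  rw [Subgroup.mem_normalizer_iff]
  intro x
  refine ⟨fun hx => ?_, fun hx => ?_⟩
  · exact h ▸ ⟨x, hx, rfl⟩
  ·
    have : g * x * g⁻¹ ∈ X.map (MulAut.conj g).toMonoidHom := h.symm ▸ hx
    simpa [mem_map_conj, mul_assoc] using this

theorem mem_cent_singleton_iff {g a : G} : g ∈ Subgroup.centralizer ({a} : Set G) ↔ g * a * g⁻¹ = a := by
  rw [Subgroup.mem_centralizer_singleton_iff, mul_inv_eq_iff_eq_mul]

theorem le_cent_singleton_iff {X : Subgroup G} {a : G} :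
    a ∈ Subgroup.centralizer (X : Set G) ↔ X ≤ Subgroup.centralizer ({a} : Set G) := by
  rw [Subgroup.mem_centralizer_iff]
  exact ⟨fun h x hx => Subgroup.mem_centralizer_singleton_iff.2 (h x hx),
    fun h x hx => Subgroup.mem_centralizer_singleton_iff.1 (h hx)⟩

theorem card_comap_of_surjective {Q : Type*} [Group Q] [Finite G] {π : G →* Q} (hπ : Function.Surjective π)
    (M : Subgroup Q) : Nat.card (M.comap π) = Nat.card π.ker * Nat.card M := by
  haveI : Finite Q := Finite.of_surjective _ hπ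
  have h1 := (M.comap π).card_mul_index
  have h2 := π.ker.card_mul_index
  have h3 := M.card_mul_index
  rw [Subgroup.index_comap_of_surjective M hπ] at h1
  rw [Subgroup.index_ker, MonoidHom.range_eq_top.2 hπ, Subgroup.card_top] at h2
  have hi : 0 < M.index := Nat.pos_of_ne_zero Subgroup.index_ne_zero_of_finite
  refine Nat.eq_of_mul_eq_mul_right hi ?_
  rw [h1, mul_assoc, h3, h2]

/-- A `p`-group fixes as many members of an invariant set as there are, modulo `p`. -/
theorem fix_modEq [Finite G] {p : ℕ} [Fact p.Prime] {X : Subgroup G} (hX : IsPGroup p X) {S : Set G}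
    (hS : ∀ x ∈ X, ∀ s ∈ S, x * s * x⁻¹ ∈ S) :
    S.ncard ≡ (S ∩ (Subgroup.centralizer (X : Set G) : Set G)).ncard [MOD p] := by
  classical
  letI : MulAction X S :=
    { smul := fun x s => ⟨(x : G) * s * (x : G)⁻¹, hS x x.2 s s.2⟩
      one_smul := fun s => Subtype.ext (show ((1 : X) : G) * s * ((1 : X) : G)⁻¹ = s by simp)
      mul_smul := fun x y s => Subtype.ext
        (show ((x * y : X) : G) * s * ((x * y : X) : G)⁻¹ = (x : G) * ((y : G) * s * (y : G)⁻¹) * (x : G)⁻¹ by
          simp [mul_assoc]) }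
  have h := hX.card_modEq_card_fixedPoints S
  rw [Nat.card_coe_set_eq] at h
  have e : Nat.card (MulAction.fixedPoints X S) = (S ∩ (Subgroup.centralizer (X : Set G) : Set G)).ncard := by
    rw [← Nat.card_coe_set_eq]
    refine Nat.card_congr
      { toFun := fun s => ⟨(s.1 : G), s.1.2, Subgroup.mem_centralizer_iff.2 fun x hx =>
          mul_inv_eq_iff_eq_mul.1 (congrArg Subtype.val (s.2 ⟨x, hx⟩))⟩
        invFun := fun s => ⟨⟨s.1, s.2.1⟩, fun x => Subtype.ext (mul_inv_eq_iff_eq_mul.2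
          (Subgroup.mem_centralizer_iff.1 s.2.2 x x.2))⟩
        left_inv := fun s => rfl
        right_inv := fun s => rfl }
  rwa [e] at h

theorem isPGroup_of_card {p : ℕ} {X : Subgroup G} (hX : Nat.card X = p) : IsPGroup p X :=
  IsPGroup.of_card (n := 1) (by rw [pow_one, hX])

variable {D : Set G} (hD : TTSet D)

include hD

theorem conj_mem_fixSet {X : Subgroup G} {g a : G} (hg : g ∈ Subgroup.normalizer (X : Set G))
    (ha : a ∈ fixSet D X) : g * a * g⁻¹ ∈ fixSet D X := by
  refine ⟨TT95.conj_mem hD g ha.1, Subgroup.mem_centralizer_iff.2 fun x hx => ?_⟩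
  have hx' : g⁻¹ * x * g ∈ (X : Set G) := by
    have := (Subgroup.mem_normalizer_iff.1 hg (g⁻¹ * x * g)).2 (by simpa [mul_assoc] using hx)
    exact this
  have := Subgroup.mem_centralizer_iff.1 ha.2 _ hx'
  calc x * (g * a * g⁻¹) = g * ((g⁻¹ * x * g) * a) * g⁻¹ := by group
    _ = g * (a * (g⁻¹ * x * g)) * g⁻¹ := by rw [this]
    _ = g * a * g⁻¹ * x := by group

omit hD

/-- The image of a subgroup of the closure of the neighbours in the local group. -/
def xbar (D : Set G) (a : G) (X : Subgroup G) : Subgroup (ModCenter (Subgroup.closure (nb D a))) :=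
  (X.subgroupOf (Subgroup.closure (nb D a))).map (QuotientGroup.mk' _)

section Layer

variable [Finite G] {n k l s t : ℕ} (hL : Lay D n k l s t) {a : G} (ha : a ∈ D)
  (hC : Subgroup.centralizer ({a} : Set G) = Subgroup.closure (nb D a))

include hL ha hC

theorem center_eq : Subgroup.center (Subgroup.closure (nb D a)) =
    (Subgroup.zpowers a).subgroupOf (Subgroup.closure (nb D a)) := by
  ext z
  rw [Subgroup.mem_subgroupOf, Subgroup.mem_center_iff]
  constructor
  · intro h
    rcases hL.kernel ha (commute_closure_nb hL.tt z.2).symm fun b hb =>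
      (congrArg Subtype.val (h ⟨b, Subgroup.subset_closure hb⟩)).symm with e | e
    · rw [e]; exact one_mem _
    · rw [e]; exact Subgroup.mem_zpowers a
  · intro h w
    obtain ⟨i, hi⟩ := Subgroup.mem_zpowers_iff.1 h
    refine Subtype.ext ?_
    show (w : G) * z = z * w
    rw [← hi]
    exact ((commute_closure_nb hL.tt w.2).zpow_left i).eq.symm

theorem self_mem : a ∈ Subgroup.closure (nb D a) :=
  hC ▸ Subgroup.mem_centralizer_singleton_iff.2 rfl

theorem card_center : Nat.card (Subgroup.center (Subgroup.closure (nb D a))) = 2 := by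
  rw [center_eq hL ha hC, Nat.card_congr (Subgroup.subgroupOfEquivOfLe
    ((Subgroup.zpowers_le).2 (self_mem hL ha hC))).toEquiv, Nat.card_zpowers, hL.tt.1.1 a ha]

theorem card_closure_nb : Nat.card (Subgroup.closure (nb D a)) =
    2 * Nat.card (ModCenter (Subgroup.closure (nb D a))) := by
  rw [Subgroup.card_eq_card_quotient_mul_card_subgroup (Subgroup.center (Subgroup.closure (nb D a))),
    card_center hL ha hC, mul_comm]

theorem card_group : Nat.card G = n * (2 * Nat.card (ModCenter (Subgroup.closure (nb D a)))) := by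
  have hr : Set.range (fun g : G => g * a * g⁻¹) = D := by
    ext x
    exact ⟨fun ⟨g, hg⟩ => hg ▸ TT95.conj_mem hL.tt g ha, fun hx => hL.one a ha x hx⟩
  rw [card_eq_mul_of_fibres (fun g : G => g * a * g⁻¹) (Subgroup.centralizer ({a} : Set G))
    (fun g g' => conj_eq_conj_iff), hr, hL.card_D, hC, card_closure_nb hL ha hC]

variable {p : ℕ} (hp : p.Prime) (hp2 : p ≠ 2) {X : Subgroup G} (hX : Nat.card X = p)
  (hXa : X ≤ Subgroup.centralizer ({a} : Set G))

include hp hp2 hX

omit hL ha hC in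
/-- An element of `X` is the square of another. -/
theorem exists_sq {x : G} (hx : x ∈ X) : ∃ y ∈ X, y * y = x := by
  obtain ⟨r, hr⟩ := hp.odd_of_ne_two hp2
  refine ⟨x ^ (r + 1), pow_mem hx _, ?_⟩
  have h := pow_card_eq_one' (G := X) (x := ⟨x, hx⟩)
  rw [hX] at h
  have h' : x ^ p = 1 := congrArg Subtype.val h
  rw [← pow_add, show r + 1 + (r + 1) = p + 1 by omega, pow_succ, h', one_mul]

include hXa

/-- Conjugating an element of `X` by an element which maps it into `X` modulo the centre maps it into `X`. -/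
theorem conj_of_mk {h : Subgroup.closure (nb D a)} {x : G} (hx : x ∈ X)
    (hmk : (QuotientGroup.mk h : ModCenter (Subgroup.closure (nb D a))) *
      QuotientGroup.mk ⟨x, hC ▸ hXa hx⟩ * (QuotientGroup.mk h)⁻¹ ∈ xbar D a X) :
    ∃ (x' : G) (hx' : x' ∈ X), (h : G) * (x * x) * (h : G)⁻¹ = x' * x' ∧
      (QuotientGroup.mk ⟨x', hC ▸ hXa hx'⟩ : ModCenter (Subgroup.closure (nb D a))) =
        QuotientGroup.mk h * QuotientGroup.mk ⟨x, hC ▸ hXa hx⟩ * (QuotientGroup.mk h)⁻¹ := by
  obtain ⟨⟨x', hx'H⟩, hx', e⟩ := hmk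
  have hx'' : x' ∈ X := hx'
  refine ⟨x', hx'', ?_, e⟩
  rw [QuotientGroup.mk'_apply, ← QuotientGroup.mk_inv, ← QuotientGroup.mk_mul, ← QuotientGroup.mk_mul,
    QuotientGroup.eq, center_eq hL ha hC, Subgroup.mem_subgroupOf] at e
  obtain ⟨i, hi⟩ := Subgroup.mem_zpowers_iff.1 e
  simp only [Subgroup.coe_mul, Subgroup.coe_inv] at hi
  have hax : Commute a x' := commute_closure_nb hL.tt hx'H
  have hz : (h : G) * x * (h : G)⁻¹ = x' * a ^ i := by rw [hi]; group
  have ha2 : a ^ i * a ^ i = 1 := by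
    rw [← zpow_add, ← two_mul, zpow_mul, zpow_two, TT95.sq hL.tt ha, one_zpow]
  calc (h : G) * (x * x) * (h : G)⁻¹ = ((h : G) * x * (h : G)⁻¹) * ((h : G) * x * (h : G)⁻¹) := by group
    _ = x' * (a ^ i * x') * a ^ i := by rw [hz]; group
    _ = x' * (x' * a ^ i) * a ^ i := by rw [(hax.zpow_left i).eq]
    _ = x' * x' * (a ^ i * a ^ i) := by group
    _ = x' * x' := by rw [ha2, mul_one]

theorem card_xbar : Nat.card (xbar D a X) = p := by
  rw [xbar, ← MonoidHom.domRestrict_range, ← Nat.card_congr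
    (MonoidHom.ofInjective (f := (QuotientGroup.mk' _).domRestrict (X.subgroupOf (Subgroup.closure (nb D a)))) ?_).toEquiv,
    Nat.card_congr (Subgroup.subgroupOfEquivOfLe (hC ▸ hXa)).toEquiv, hX]
  rw [← MonoidHom.ker_eq_bot_iff, eq_bot_iff]
  rintro ⟨⟨x, hxH⟩, hx⟩ hk
  have hx' : x ∈ X := hx
  rw [MonoidHom.mem_ker, MonoidHom.domRestrict_apply, QuotientGroup.mk'_apply, QuotientGroup.eq_one_iff,
    center_eq hL ha hC, Subgroup.mem_subgroupOf] at hk
  obtain ⟨i, hi⟩ := Subgroup.mem_zpowers_iff.1 hk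
  have h1 : x * x = 1 := by
    change a ^ i = x at hi
    rw [← hi, ← zpow_add, ← two_mul, zpow_mul, zpow_two, TT95.sq hL.tt ha, one_zpow]
  have h2 := pow_card_eq_one' (G := X) (x := ⟨x, hx'⟩)
  rw [hX] at h2
  have h2' : x ^ p = 1 := congrArg Subtype.val h2
  obtain ⟨r, hr⟩ := hp.odd_of_ne_two hp2
  rw [hr, pow_succ, pow_mul, pow_two, h1, one_pow, one_mul] at h2'
  simp [h2']

theorem norm_local : (Subgroup.normalizer (X : Set G) ⊓ Subgroup.centralizer ({a} : Set G)).subgroupOf
    (Subgroup.closure (nb D a)) =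
      (Subgroup.normalizer (xbar D a X : Set (ModCenter (Subgroup.closure (nb D a))))).comap (QuotientGroup.mk' _) := by
  ext h
  rw [Subgroup.mem_subgroupOf, Subgroup.mem_inf, Subgroup.mem_comap, QuotientGroup.mk'_apply]
  refine ⟨fun hh => ?_, fun hh => ⟨?_, hC.symm ▸ h.2⟩⟩
  · refine mem_normalizer_of_map ?_
    refine Subgroup.eq_of_le_of_card_ge ?_ (le_of_eq (card_map_conj _ _).symm)
    rintro _ ⟨_, ⟨x, hx, rfl⟩, rfl⟩
    exact ⟨h * x * h⁻¹, (Subgroup.mem_normalizer_iff.1 hh.1 (x : G)).1 hx, rfl⟩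
  · refine mem_normalizer_of_map (Subgroup.eq_of_le_of_card_ge ?_ (le_of_eq (card_map_conj _ _).symm))
    rintro _ ⟨x, hx, rfl⟩
    obtain ⟨y, hy, rfl⟩ := exists_sq hp hp2 hX hx
    obtain ⟨x', hx', e, -⟩ := conj_of_mk hL ha hC hp hp2 hX hXa hy
      ((Subgroup.mem_normalizer_iff.1 hh _).1 ⟨_, hy, rfl⟩)
    show (h : G) * (y * y) * (h : G)⁻¹ ∈ X
    rw [e]; exact mul_mem hx' hx'

theorem cent_local : (Subgroup.centralizer (X : Set G) ⊓ Subgroup.centralizer ({a} : Set G)).subgroupOf
    (Subgroup.closure (nb D a)) =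
      (Subgroup.centralizer (xbar D a X : Set (ModCenter (Subgroup.closure (nb D a))))).comap (QuotientGroup.mk' _) := by
  ext h
  rw [Subgroup.mem_subgroupOf, Subgroup.mem_inf, Subgroup.mem_comap, QuotientGroup.mk'_apply]
  refine ⟨fun hh => Subgroup.mem_centralizer_iff.2 ?_, fun hh => ⟨Subgroup.mem_centralizer_iff.2 fun x hx => ?_, hC.symm ▸ h.2⟩⟩
  · rintro _ ⟨x, hx, rfl⟩
    exact congrArg QuotientGroup.mk (Subtype.ext (Subgroup.mem_centralizer_iff.1 hh.1 _ hx))
  · obtain ⟨y, hy, rfl⟩ := exists_sq hp hp2 hX hx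
    have hc := Subgroup.mem_centralizer_iff.1 hh _
      (show (QuotientGroup.mk ⟨y, hC ▸ hXa hy⟩ : ModCenter (Subgroup.closure (nb D a))) ∈ xbar D a X from ⟨_, hy, rfl⟩)
    have hq : (QuotientGroup.mk h : ModCenter (Subgroup.closure (nb D a))) *
        QuotientGroup.mk ⟨y, hC ▸ hXa hy⟩ * (QuotientGroup.mk h)⁻¹ = QuotientGroup.mk ⟨y, hC ▸ hXa hy⟩ := by
      rw [← hc, mul_inv_cancel_right]
    obtain ⟨x', hx', e, e'⟩ := conj_of_mk hL ha hC hp hp2 hX hXa (h := h) hy (by rw [hq]; exact ⟨_, hy, rfl⟩)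
    have hinj : x' = y := by
      rw [hq] at e'
      have hker := (QuotientGroup.eq (s := Subgroup.center (Subgroup.closure (nb D a)))).1 e'
      have hmem : x'⁻¹ * y ∈ X := mul_mem (inv_mem hx') hy
      have hone : (⟨x'⁻¹ * y, hC ▸ hXa hmem⟩ : Subgroup.closure (nb D a)) ∈ Subgroup.center _ := hker
      have hcard := card_xbar hL ha hC hp hp2 hX hXa
      by_contra hne
      have hgen : Subgroup.zpowers (x'⁻¹ * y) = X := by
        refine Subgroup.eq_of_le_of_card_ge ((Subgroup.zpowers_le).2 hmem) ?_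
        rw [hX, Nat.card_zpowers]
        have h1 : orderOf (x'⁻¹ * y) ∣ p := by
          rw [← hX]
          have := orderOf_dvd_natCard (G := X) ⟨_, hmem⟩
          rwa [← Subgroup.orderOf_coe] at this
        rcases hp.eq_one_or_self_of_dvd _ h1 with h1 | h1
        · exact absurd (inv_mul_eq_one.1 (orderOf_eq_one_iff.1 h1)) hne
        · exact h1.ge
      have hbot : xbar D a X = ⊥ := by
        rw [eq_bot_iff]
        rintro _ ⟨⟨z, hzH⟩, hz, rfl⟩
        obtain ⟨i, rfl⟩ := Subgroup.mem_zpowers_iff.1 (hgen.symm ▸ (show z ∈ X from hz))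
        rw [Subgroup.mem_bot, QuotientGroup.mk'_apply, QuotientGroup.eq_one_iff]
        exact zpow_mem hone i
      rw [hbot, Subgroup.card_bot] at hcard
      exact hp.one_lt.ne hcard
    rw [hinj] at e
    exact (mul_inv_eq_iff_eq_mul.1 e).symm

theorem card_norm_local : Nat.card (Subgroup.normalizer (X : Set G) ⊓ Subgroup.centralizer ({a} : Set G) : Subgroup G) =
    2 * Nat.card (Subgroup.normalizer (xbar D a X : Set (ModCenter (Subgroup.closure (nb D a))))) := by
  rw [← Nat.card_congr (Subgroup.subgroupOfEquivOfLe (inf_le_right.trans hC.le)).toEquiv,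
    norm_local hL ha hC hp hp2 hX hXa, card_comap_of_surjective (QuotientGroup.mk'_surjective _),
    QuotientGroup.ker_mk', card_center hL ha hC]

theorem card_cent_local : Nat.card (Subgroup.centralizer (X : Set G) ⊓ Subgroup.centralizer ({a} : Set G) : Subgroup G) =
    2 * Nat.card (Subgroup.centralizer (xbar D a X : Set (ModCenter (Subgroup.closure (nb D a))))) := by
  rw [← Nat.card_congr (Subgroup.subgroupOfEquivOfLe (inf_le_right.trans hC.le)).toEquiv,
    cent_local hL ha hC hp hp2 hX hXa, card_comap_of_surjective (QuotientGroup.mk'_surjective _),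
    QuotientGroup.ker_mk', card_center hL ha hC]

/-- A neighbour commutes with `X` iff its image commutes with the image of `X`. -/
theorem mkNb_mem_cent_iff {x : G} (hx : x ∈ nb D a) :
    mkNb hx ∈ Subgroup.centralizer (xbar D a X : Set (ModCenter (Subgroup.closure (nb D a)))) ↔
      x ∈ Subgroup.centralizer (X : Set G) := by
  rw [Subgroup.mem_centralizer_iff, Subgroup.mem_centralizer_iff]
  refine ⟨fun h y hy => ?_, fun h => ?_⟩
  · have hyH : y ∈ Subgroup.closure (nb D a) := hC ▸ hXa hy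
    have hx' := conj_mem_nb hL.tt hyH hx
    have e : mkNb hx' = mkNb hx := by
      have := h (QuotientGroup.mk ⟨y, hyH⟩) ⟨_, hy, rfl⟩
      show QuotientGroup.mk' _ ((⟨y, hyH⟩ : Subgroup.closure (nb D a)) * ⟨x, Subgroup.subset_closure hx⟩ * (⟨y, hyH⟩ : Subgroup.closure (nb D a))⁻¹) = _
      rw [map_mul, map_mul, map_inv]
      exact mul_inv_eq_iff_eq_mul.2 this
    exact mul_inv_eq_iff_eq_mul.1 (eq_of_mkNb_eq hL.tt hx' hx (mkNb_ne_one hL.tt hL.one hL.tf ha hx') e)
  · rintro _ ⟨y, hy, rfl⟩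
    exact congrArg QuotientGroup.mk (Subtype.ext (h _ hy))

/-- The fixed neighbours are the fixed members of the local group. -/
theorem ncard_fix_nb : (fixSet D X ∩ nb D a).ncard =
    (locSet D a ∩ (Subgroup.centralizer (xbar D a X : Set (ModCenter (Subgroup.closure (nb D a)))) :
      Set (ModCenter (Subgroup.closure (nb D a))))).ncard := by
  refine Set.ncard_congr (fun x hx => mkNb hx.2) (fun x hx => ⟨mkNb_mem hL.tt hx.2
    (mkNb_ne_one hL.tt hL.one hL.tf ha hx.2), (mkNb_mem_cent_iff hL ha hC hp hp2 hX hXa hx.2).2 hx.1.2⟩)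
    (fun x y hx hy e => eq_of_mkNb_eq hL.tt hx.2 hy.2 (mkNb_ne_one hL.tt hL.one hL.tf ha hx.2) e)
    fun q hq => ?_
  obtain ⟨x, hx, rfl, -⟩ := exists_of_mem_locSet hL.tt hq.1
  exact ⟨x, ⟨⟨hx.1, (mkNb_mem_cent_iff hL ha hC hp hp2 hX hXa hx).1 hq.2⟩, hx⟩, rfl⟩

end Layer

end Cfsg.Agent.TT95N
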