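import Cfsg.Agent.TT95N.Sym

/-!
Counts among the transpositions of seven letters, and the closed sets in which each member commutes with
six others.
-/

set_option autoImplicit false

namespace Cfsg.Agent.TT95N

open Equiv Equiv.Perm

theorem swap_rep {n : ℕ} {s : Perm (Fin n)} (hs : s ∈ swaps n) : ∃ i j : Fin n, i < j ∧ s = swap i j := by
  obtain ⟨a, b, hab, rfl⟩ := hs
  rcases lt_or_gt_of_ne hab with h | h
  · exact ⟨a, b, h, rfl⟩
  · exact ⟨b, a, h, Equiv.swap_comm a b⟩

/-- Commutation of transpositions, read on the points. -/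
theorem commute_swap_iff : ∀ i j k l : Fin 7, i < j → k < l →
    (swap i j * swap k l = swap k l * swap i j ↔
      (i = k ∧ j = l) ∨ (i ≠ k ∧ i ≠ l ∧ j ≠ k ∧ j ≠ l)) := by
  decide +kernel

/-- The pairs `i < j` disjoint from two pairs sharing one point, and from one pair meeting a given one. -/
theorem seven_counts :
    (∀ i j k l : Fin 7, i < j → k < l → ¬ ((i = k ∧ j = l) ∨ (i ≠ k ∧ i ≠ l ∧ j ≠ k ∧ j ≠ l)) →
      (Finset.univ.filter fun p : Fin 7 × Fin 7 => p.1 < p.2 ∧ p.1 ≠ i ∧ p.1 ≠ j ∧ p.2 ≠ i ∧ p.2 ≠ j ∧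
        p.1 ≠ k ∧ p.1 ≠ l ∧ p.2 ≠ k ∧ p.2 ≠ l).card = 6) ∧
    (∀ i j : Fin 7, i < j → (Finset.univ.filter fun p : Fin 7 × Fin 7 => p.1 < p.2 ∧ (p.1, p.2) ≠ (i, j) ∧
      ¬ (p.1 ≠ i ∧ p.1 ≠ j ∧ p.2 ≠ i ∧ p.2 ≠ j)).card = 10) := by
  decide +kernel

theorem injOn_swap (n : ℕ) :
    Set.InjOn (fun p : Fin n × Fin n => swap p.1 p.2) {p | p.1 < p.2} := by
  rintro ⟨a, b⟩ (hab : a < b) ⟨c, d⟩ (hcd : c < d) e
  have h1 := congrArg Perm.support e
  simp only [Equiv.Perm.support_swap hab.ne, Equiv.Perm.support_swap hcd.ne] at h1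
  have ha : a ∈ ({c, d} : Finset (Fin n)) := by rw [← h1]; simp
  have hb : b ∈ ({c, d} : Finset (Fin n)) := by rw [← h1]; simp
  simp only [Finset.mem_insert, Finset.mem_singleton] at ha hb
  rcases ha with rfl | rfl <;> rcases hb with rfl | rfl
  · exact absurd hab (lt_irrefl _)
  · rfl
  · exact absurd (hab.trans hcd) (lt_irrefl _)
  · exact absurd hab (lt_irrefl _)

theorem ncard_swaps_filter (P : Perm (Fin 7) → Prop) (q : Fin 7 × Fin 7 → Prop) [DecidablePred q]
    (h : ∀ p : Fin 7 × Fin 7, p.1 < p.2 → (P (swap p.1 p.2) ↔ q p)) :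
    {s | s ∈ swaps 7 ∧ P s}.ncard = (Finset.univ.filter fun p : Fin 7 × Fin 7 => p.1 < p.2 ∧ q p).card := by
  rw [← Set.ncard_coe_finset]
  have e : {s | s ∈ swaps 7 ∧ P s} = (fun p : Fin 7 × Fin 7 => swap p.1 p.2) ''
      ↑(Finset.univ.filter fun p : Fin 7 × Fin 7 => p.1 < p.2 ∧ q p) := by
    ext s
    constructor
    · rintro ⟨hs, hP⟩
      obtain ⟨i, j, hij, rfl⟩ := swap_rep hs
      exact ⟨(i, j), by simpa using ⟨hij, (h (i, j) hij).1 hP⟩, rfl⟩
    · rintro ⟨p, hp, rfl⟩
      simp only [Finset.coe_filter, Finset.mem_univ, true_and] at hp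
      exact ⟨⟨_, _, hp.1.ne, rfl⟩, (h p hp.1).2 hp.2⟩
  rw [e, Set.InjOn.ncard_image]
  exact (injOn_swap 7).mono fun p hp => by simp at hp; exact hp.1

/-- Two noncommuting transpositions of seven letters commute with six common ones. -/
theorem ncard_common_seven {s t : Perm (Fin 7)} (hs : s ∈ swaps 7) (ht : t ∈ swaps 7) (h : ¬ Commute s t) :
    {u | u ∈ swaps 7 ∧ u ≠ s ∧ u ≠ t ∧ Commute s u ∧ Commute t u}.ncard = 6 := by
  obtain ⟨i, j, hij, rfl⟩ := swap_rep hs
  obtain ⟨k, l, hkl, rfl⟩ := swap_rep ht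
  have hn := fun h' => h ((commute_swap_iff i j k l hij hkl).2 h')
  rw [ncard_swaps_filter (fun u => u ≠ swap i j ∧ u ≠ swap k l ∧ Commute (swap i j) u ∧ Commute (swap k l) u)
    (fun p : Fin 7 × Fin 7 => p.1 ≠ i ∧ p.1 ≠ j ∧ p.2 ≠ i ∧ p.2 ≠ j ∧
      p.1 ≠ k ∧ p.1 ≠ l ∧ p.2 ≠ k ∧ p.2 ≠ l) ?_]
  · exact seven_counts.1 i j k l hij hkl hn
  intro p hp
  constructor
  · rintro ⟨n1, n2, c1, c2⟩
    have d1 := ((commute_swap_iff i j p.1 p.2 hij hp).1 c1).resolve_left fun e => n1 (by rw [e.1, e.2])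
    have d2 := ((commute_swap_iff k l p.1 p.2 hkl hp).1 c2).resolve_left fun e => n2 (by rw [e.1, e.2])
    exact ⟨d1.1.symm, d1.2.2.1.symm, d1.2.1.symm, d1.2.2.2.symm, d2.1.symm, d2.2.2.1.symm, d2.2.1.symm,
      d2.2.2.2.symm⟩
  · rintro ⟨a1, a2, a3, a4, b1, b2, b3, b4⟩
    refine ⟨fun e => a1 (congrArg Prod.fst (injOn_swap 7 (x₁ := p) hp (x₂ := (i, j)) hij e)),
      fun e => b1 (congrArg Prod.fst (injOn_swap 7 (x₁ := p) hp (x₂ := (k, l)) hkl e)),
      (commute_swap_iff i j p.1 p.2 hij hp).2 (Or.inr ⟨a1.symm, a3.symm, a2.symm, a4.symm⟩),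
      (commute_swap_iff k l p.1 p.2 hkl hp).2 (Or.inr ⟨b1.symm, b3.symm, b2.symm, b4.symm⟩)⟩

/-- A transposition of seven letters fails to commute with ten others. -/
theorem ncard_noncomm_seven {s : Perm (Fin 7)} (hs : s ∈ swaps 7) :
    {u | u ∈ swaps 7 ∧ ¬ Commute s u}.ncard = 10 := by
  obtain ⟨i, j, hij, rfl⟩ := swap_rep hs
  rw [ncard_swaps_filter (fun u => ¬ Commute (swap i j) u) (fun p : Fin 7 × Fin 7 => (p.1, p.2) ≠ (i, j) ∧
      ¬ (p.1 ≠ i ∧ p.1 ≠ j ∧ p.2 ≠ i ∧ p.2 ≠ j)) ?_]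
  · exact seven_counts.2 i j hij
  intro p hp
  show ¬ _ ↔ _
  rw [commute_iff_eq, commute_swap_iff i j p.1 p.2 hij hp]
  constructor
  · intro h
    exact ⟨fun e => h (Or.inl ⟨(congrArg Prod.fst e).symm, (congrArg Prod.snd e).symm⟩),
      fun d => h (Or.inr ⟨d.1.symm, d.2.2.1.symm, d.2.1.symm, d.2.2.2.symm⟩)⟩
  · rintro ⟨h1, h2⟩ (e | d)
    · exact h1 (Prod.ext e.1.symm e.2.symm)
    · exact h2 ⟨d.1.symm, d.2.2.1.symm, d.2.1.symm, d.2.2.2.symm⟩

theorem swap_conj_third : ∀ i j k : Fin 7, i ≠ j → i ≠ k → j ≠ k →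
    swap i j * swap i k * (swap i j)⁻¹ = swap j k := by
  decide +kernel

/-- A nonempty closed set of transpositions of seven letters in which each member commutes with six others
consists of those fixing one letter. -/
theorem seven_closed (C : Set (Perm (Fin 7))) (hsw : C ⊆ swaps 7) (hcl : ∀ s ∈ C, ∀ t ∈ C, s * t * s⁻¹ ∈ C)
    (hne : C.Nonempty) (hdeg : ∀ s ∈ C, {t | t ∈ C ∧ t ≠ s ∧ Commute s t}.ncard = 6) :
    C.ncard = 15 ∧ ∃ p, C = {t | t ∈ swaps 7 ∧ t p = p} := by
  classical
  set N : Fin 7 → Finset (Fin 7) := fun i => Finset.univ.filter fun j => j ≠ i ∧ swap i j ∈ C with hN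
  set P : Finset (Fin 7 × Fin 7) := Finset.univ.filter fun p => p.1 < p.2 ∧ swap p.1 p.2 ∈ C with hP
  have hCP : C.ncard = P.card := by
    have h := ncard_swaps_filter (fun s => s ∈ C) (fun p => swap p.1 p.2 ∈ C) (fun p _ => Iff.rfl)
    rw [hP, ← h]
    congr 1
    exact Set.ext fun s => ⟨fun hs => ⟨hsw hs, hs⟩, fun hs => hs.2⟩
  have hnb : ∀ i j, j ∈ N i → i ∈ N j := fun i j h => by
    simp only [hN, Finset.mem_filter, Finset.mem_univ, true_and] at h ⊢
    exact ⟨h.1.symm, Equiv.swap_comm i j ▸ h.2⟩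
  -- the sum of the valencies is twice the number of members
  have hsum : ∑ i, (N i).card = 2 * C.ncard := by
    have h2 : (Finset.univ.filter fun p : Fin 7 × Fin 7 => p.1 ≠ p.2 ∧ swap p.1 p.2 ∈ C).card = 2 * P.card := by
      have e : (Finset.univ.filter fun p : Fin 7 × Fin 7 => p.1 ≠ p.2 ∧ swap p.1 p.2 ∈ C) =
          P ∪ P.map (Equiv.prodComm (Fin 7) (Fin 7)).toEmbedding := by
        ext ⟨i, j⟩
        simp only [hP, Finset.mem_union, Finset.mem_map_equiv, Finset.mem_filter, Finset.mem_univ, true_and,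
          Equiv.prodComm_symm, Equiv.prodComm_apply, Prod.swap_prod_mk]
        rw [Equiv.swap_comm j i, ← or_and_right, ← ne_iff_lt_or_gt]
      rw [e, Finset.card_union_of_disjoint, Finset.card_map, two_mul]
      rw [Finset.disjoint_left]
      rintro ⟨i, j⟩ h1 h2
      simp only [hP, Finset.mem_map_equiv, Finset.mem_filter, Finset.mem_univ, true_and, Equiv.prodComm_symm,
        Equiv.prodComm_apply, Prod.swap_prod_mk] at h1 h2
      exact lt_asymm h1.1 h2.1
    rw [hCP, ← h2, Finset.card_filter, Fintype.sum_prod_type]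
    refine Finset.sum_congr rfl fun i _ => ?_
    rw [hN, Finset.card_filter]
    refine Finset.sum_congr rfl fun j _ => ?_
    simp only [ne_comm]
  -- the valency is the same at the two ends of a member
  have htrans : ∀ i j, j ∈ N i → N i \ {j} = N j \ {i} := by
    have one : ∀ i j, j ∈ N i → N i \ {j} ⊆ N j \ {i} := by
      intro i j hj k hk
      simp only [hN, Finset.mem_sdiff, Finset.mem_filter, Finset.mem_univ, true_and, Finset.mem_singleton] at hj hk ⊢
      refine ⟨⟨hk.2, ?_⟩, hk.1.1⟩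
      rw [← swap_conj_third i j k hj.1.symm hk.1.1.symm (Ne.symm hk.2)]
      exact hcl _ hj.2 _ hk.1.2
    exact fun i j hj => (one i j hj).antisymm (one j i (hnb i j hj))
  have hval : ∀ i j, j ∈ N i → (N i).card = (N j).card ∧ 2 * (N i).card + 5 = C.ncard := by
    intro i j hj
    have e1 := Finset.card_sdiff_add_card_inter (N i) {j}
    have e2 := Finset.card_sdiff_add_card_inter (N j) {i}
    rw [Finset.inter_singleton_of_mem hj, Finset.card_singleton, htrans i j hj] at e1
    rw [Finset.inter_singleton_of_mem (hnb i j hj), Finset.card_singleton] at e2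
    refine ⟨by omega, ?_⟩
    have hj' : j ≠ i ∧ swap i j ∈ C := by simpa [hN] using hj
    -- members meeting the pair
    set M : Finset (Perm (Fin 7)) :=
      (N i).image (fun k => swap i k) ∪ (N j \ {i}).image (fun k => swap j k) with hM
    have inj : ∀ x : Fin 7, Function.Injective (fun k => swap x k) := fun x k k' e => by
      have := DFunLike.congr_fun e x
      simpa using this
    have hMc : M.card = (N i).card + ((N j).card - 1) := by
      rw [hM, Finset.card_union_of_disjoint, Finset.card_image_of_injective _ (inj i),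
        Finset.card_image_of_injective _ (inj j)]
      · omega
      · rw [Finset.disjoint_left]
        simp only [Finset.mem_image, Finset.mem_sdiff, Finset.mem_singleton]
        rintro s ⟨k, hk, rfl⟩ ⟨k', ⟨hk', hk'i⟩, e⟩
        simp only [hN, Finset.mem_filter, Finset.mem_univ, true_and] at hk hk'
        have := DFunLike.congr_fun e i
        rw [Equiv.swap_apply_left, Equiv.swap_apply_of_ne_of_ne hj'.1.symm (Ne.symm hk'i)] at this
        exact hk.1 this.symm
    have hsplit : C = (M : Set (Perm (Fin 7))) ∪ {t | t ∈ C ∧ t ≠ swap i j ∧ Commute (swap i j) t} := by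
      ext s
      constructor
      · intro hs
        obtain ⟨k, l, hkl, rfl⟩ := swap_rep (hsw hs)
        by_cases hm : k = i ∨ l = i ∨ k = j ∨ l = j
        · left
          rw [Finset.mem_coe, hM, Finset.mem_union, Finset.mem_image, Finset.mem_image]
          rcases hm with rfl | rfl | rfl | rfl
          · exact Or.inl ⟨l, by simp [hN, hkl.ne', hs], rfl⟩
          · exact Or.inl ⟨k, by simp [hN, hkl.ne, Equiv.swap_comm l k, hs], Equiv.swap_comm _ _⟩
          · by_cases hli : l = i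
            · subst hli; exact Or.inl ⟨k, by simp [hN, hkl.ne, Equiv.swap_comm l k, hs], Equiv.swap_comm _ _⟩
            · exact Or.inr ⟨l, by simp [hN, hkl.ne', hs, hli], rfl⟩
          · by_cases hki : k = i
            · subst hki; exact Or.inl ⟨l, by simp [hN, hkl.ne', hs], rfl⟩
            · exact Or.inr ⟨k, by simp [hN, hkl.ne, Equiv.swap_comm l k, hs, hki], Equiv.swap_comm _ _⟩
        · right
          simp only [not_or] at hm
          refine ⟨hs, fun e => hm.1 ?_, ?_⟩
          · have := congrArg (fun t : Perm (Fin 7) => t i) e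
            simp only [Equiv.swap_apply_left, Equiv.swap_apply_of_ne_of_ne (Ne.symm hm.1) (Ne.symm hm.2.1)] at this
            exact absurd this hj'.1.symm
          · have hd : Equiv.Perm.Disjoint (swap i j) (swap k l) := by
              intro x
              by_cases hx : x = i ∨ x = j
              · right
                apply Equiv.swap_apply_of_ne_of_ne <;> rintro rfl <;> rcases hx with rfl | rfl <;> simp at hm
              · rw [not_or] at hx
                exact Or.inl (Equiv.swap_apply_of_ne_of_ne hx.1 hx.2)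
            exact hd.commute
      · rintro (hs | hs)
        · rw [Finset.mem_coe, hM, Finset.mem_union, Finset.mem_image, Finset.mem_image] at hs
          rcases hs with ⟨k, hk, rfl⟩ | ⟨k, hk, rfl⟩
          · simp only [hN, Finset.mem_filter, Finset.mem_univ, true_and] at hk; exact hk.2
          · simp only [hN, Finset.mem_sdiff, Finset.mem_filter, Finset.mem_univ, true_and] at hk; exact hk.1.2
        · exact hs.1
    rw [hsplit, Set.ncard_union_eq ?_ (Finset.finite_toSet _) (Set.toFinite _), Set.ncard_coe_finset, hMc,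
      hdeg _ hj'.2]
    · omega
    rw [Set.disjoint_left]
    rintro s hs ⟨-, hne', hc⟩
    rw [Finset.mem_coe, hM, Finset.mem_union, Finset.mem_image, Finset.mem_image] at hs
    rcases hs with ⟨k, hk, rfl⟩ | ⟨k, hk, rfl⟩
    · simp only [hN, Finset.mem_filter, Finset.mem_univ, true_and] at hk
      by_cases hkj : k = j
      · exact hne' (by rw [hkj])
      · have := DFunLike.congr_fun hc.eq i
        simp [Equiv.swap_apply_of_ne_of_ne hk.1 hkj, Equiv.swap_apply_of_ne_of_ne hj'.1 (Ne.symm hkj)] at this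
        exact hkj this
    · simp only [hN, Finset.mem_sdiff, Finset.mem_filter, Finset.mem_univ, true_and, Finset.mem_singleton] at hk
      have := DFunLike.congr_fun hc.eq j
      simp [Equiv.swap_apply_of_ne_of_ne hk.2 hk.1.1, Equiv.swap_apply_of_ne_of_ne hj'.1.symm (Ne.symm hk.2)] at this
      exact hk.2 this
  -- the points on members
  set Z := Finset.univ.filter fun i => (N i).Nonempty with hZ
  have hz : 2 * C.ncard * 2 = Z.card * (C.ncard - 5) := by
    rw [← hsum, ← Finset.sum_filter_of_ne (p := fun i => (N i).Nonempty) (fun i _ h => Finset.card_ne_zero.1 h),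
      Finset.sum_mul, ← hZ]
    refine (Finset.sum_congr rfl fun i hi => ?_).trans (by rw [Finset.sum_const, smul_eq_mul])
    obtain ⟨j, hj⟩ := (Finset.mem_filter.1 hi).2
    have := (hval i j hj).2
    omega
  obtain ⟨s0, hs0⟩ := hne
  obtain ⟨i0, j0, hij, rfl⟩ := swap_rep (hsw hs0)
  have hj0 : j0 ∈ N i0 := by simp [hN, hs0, hij.ne']
  have hd := (hval i0 j0 hj0).2
  have hdle : (N i0).card + 1 ≤ Z.card := by
    have hsub : insert i0 (N i0) ⊆ Z := by
      intro x hx
      rw [Finset.mem_insert] at hx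
      refine Finset.mem_filter.2 ⟨Finset.mem_univ x, ?_⟩
      rcases hx with rfl | hx
      · exact ⟨j0, hj0⟩
      · exact ⟨i0, hnb _ _ hx⟩
    have := Finset.card_le_card hsub
    rwa [Finset.card_insert_of_notMem (by simp [hN])] at this
  have hZ7 : Z.card ≤ 7 := (Finset.card_le_univ Z).trans (by rw [Fintype.card_fin])
  have hC15 : C.ncard = 15 ∧ Z.card = 6 := by
    rw [← hd, show 2 * (N i0).card + 5 - 5 = 2 * (N i0).card by omega] at hz
    rw [← hd]
    generalize (N i0).card = d, Z.card = z at hz hdle hZ7 ⊢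
    have : d ≤ 6 := by omega
    interval_cases d <;> interval_cases z <;> omega
  refine ⟨hC15.1, ?_⟩
  obtain ⟨p, -, hp⟩ := Finset.exists_mem_notMem_of_card_lt_card (s := Z) (t := Finset.univ)
    (by rw [hC15.2, Finset.card_univ, Fintype.card_fin]; norm_num)
  refine ⟨p, Set.eq_of_subset_of_ncard_le (fun s hs => ⟨hsw hs, ?_⟩) ?_ (Set.toFinite _)⟩
  · obtain ⟨i, j, hij, rfl⟩ := swap_rep (hsw hs)
    refine Equiv.swap_apply_of_ne_of_ne ?_ ?_
    · rintro rfl; exact hp (Finset.mem_filter.2 ⟨Finset.mem_univ p, j, by simp [hN, hs, hij.ne']⟩)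
    · rintro rfl; exact hp (Finset.mem_filter.2 ⟨Finset.mem_univ p, i, by simp [hN, Equiv.swap_comm p i, hs, hij.ne]⟩)
  · rw [hC15.1, ncard_swaps_filter (fun t => t p = p) (fun q : Fin 7 × Fin 7 => q.1 ≠ p ∧ q.2 ≠ p) ?_]
    · exact (by decide +kernel : ∀ p : Fin 7,
        (Finset.univ.filter fun q : Fin 7 × Fin 7 => q.1 < q.2 ∧ q.1 ≠ p ∧ q.2 ≠ p).card ≤ 15) p
    intro q hq
    constructor
    · intro h
      refine ⟨fun e => ?_, fun e => ?_⟩
      · subst e; rw [Equiv.swap_apply_left] at h; exact hq.ne' h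
      · subst e; rw [Equiv.swap_apply_right] at h; exact hq.ne h
    · exact fun h => Equiv.swap_apply_of_ne_of_ne (Ne.symm h.1) (Ne.symm h.2)

end Cfsg.Agent.TT95N
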