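import Cfsg.Agent.TT95N.Thirteen24

/-!
Type M(24): the normaliser of a subgroup of order 13 centralising two pairs of noncommuting transpositions.
-/

set_option autoImplicit false
set_option linter.unusedSectionVars false
set_option maxHeartbeats 400000

namespace Cfsg.Agent.TT95N

open Cfsg.Agent.TT95

section Plain

variable {G : Type*} [Group G] {D : Set G}

theorem centralizer_closure_set (S : Set G) :
    Subgroup.centralizer (Subgroup.closure S : Set G) = Subgroup.centralizer S := by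
  refine le_antisymm (Subgroup.centralizer_le Subgroup.subset_closure) fun g hg => ?_
  have hle : Subgroup.closure S ≤ Subgroup.centralizer ({g} : Set G) := (Subgroup.closure_le _).2 fun s hs => by
    rw [SetLike.mem_coe, Subgroup.mem_centralizer_singleton_iff]
    exact Subgroup.mem_centralizer_iff.1 hg s hs
  exact Subgroup.mem_centralizer_iff.2 fun x hx => Subgroup.mem_centralizer_singleton_iff.1 (hle hx)

/-- Commuting subgroups with trivial intersection. -/
theorem sup_of_commute [Finite G] {U V : Subgroup G} (hc : ∀ u ∈ U, ∀ v ∈ V, Commute u v) (hb : U ⊓ V = ⊥) :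
    Nat.card ↥(U ⊔ V) = Nat.card U * Nat.card V ∧ ∀ x ∈ U ⊔ V, ∃ u ∈ U, ∃ v ∈ V, u * v = x := by
  set f := MonoidHom.noncommCoprod U.subtype V.subtype fun u v => hc u u.2 v v.2
  have hr : f.range = U ⊔ V := by
    refine (MonoidHom.noncommCoprod_range _ _ _).trans ?_
    rw [Subgroup.range_subtype, Subgroup.range_subtype]
  have hinj : Function.Injective f := by
    refine (injective_iff_map_eq_one f).2 fun ⟨u, v⟩ h => ?_
    have h' : (u : G) * (v : G) = 1 := h
    have hu : (u : G) ∈ U ⊓ V := Subgroup.mem_inf.2 ⟨u.2, by rw [eq_inv_of_mul_eq_one_left h']; exact inv_mem v.2⟩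
    rw [hb, Subgroup.mem_bot] at hu
    rw [hu, one_mul] at h'
    exact Prod.ext (Subtype.ext hu) (Subtype.ext h')
  refine ⟨?_, fun x hx => ?_⟩
  · rw [← hr, ← Nat.card_congr (MonoidHom.ofInjective hinj).toEquiv, Nat.card_prod]
  · rw [← hr] at hx
    obtain ⟨⟨u, v⟩, rfl⟩ := hx
    exact ⟨u, u.2, v, v.2, rfl⟩

variable (hD : TTSet D) {a d : G} (ha : a ∈ D) (hd : d ∈ far D a)

include hD ha hd

theorem line_noncomm {x y : G} (hx : x ∈ ({a, d, a * d * a} : Set G)) (hy : y ∈ ({a, d, a * d * a} : Set G))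
    (hne : x ≠ y) : ¬ Commute x y := by
  have hb := braid hD ha hd.1 hd.2
  have e1 : ¬ Commute a (a * d * a) := fun h => hd.2 (by
    have h' := (Commute.conj_iff a).2 h
    rw [mul_inv_cancel_right, inv_eq hD ha,
      show a * (a * d * a) * a = (a * a) * d * (a * a) by simp only [mul_assoc], sq hD ha, one_mul, mul_one] at h'
    exact h')
  have e2 : ¬ Commute d (a * d * a) := fun h => hd.2 (by
    have h' := (Commute.conj_iff d).2 h
    rw [mul_inv_cancel_right, inv_eq hD hd.1, hb,
      show d * (d * a * d) * d = (d * d) * a * (d * d) by simp only [mul_assoc], sq hD hd.1, one_mul, mul_one] at h'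
    exact h'.symm)
  simp only [Set.mem_insert_iff, Set.mem_singleton_iff] at hx hy
  rcases hx with rfl | rfl | rfl <;> rcases hy with rfl | rfl | rfl <;>
    first
      | exact absurd rfl hne
      | exact hd.2
      | exact fun h => hd.2 h.symm
      | exact e1
      | exact fun h => e1 h.symm
      | exact e2
      | exact fun h => e2 h.symm

theorem line_ncard : ({a, d, a * d * a} : Set G).ncard = 3 := by
  refine Set.ncard_eq_three.2 ⟨a, d, a * d * a, fun e => hd.2 (e ▸ Commute.refl a), fun e => hd.2 ?_,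
    fun e => hd.2 ?_, rfl⟩
  · have h : d * a = 1 := mul_left_cancel (a := a) (by rw [← mul_assoc, mul_one, ← e])
    rw [eq_inv_of_mul_eq_one_left h]
    exact (Commute.refl a).inv_right
  · have h : a * d * a * a = d * a := by rw [← e]
    rw [mul_assoc _ a a, sq hD ha, mul_one] at h
    exact h

/-- Each ordered pair of distinct members of the line is an image of `(a, d)`. -/
theorem line_perm {u v : G} (hu : u ∈ ({a, d, a * d * a} : Set G)) (hv : v ∈ ({a, d, a * d * a} : Set G))
    (hne : u ≠ v) : ∃ t ∈ Subgroup.closure ({a, d} : Set G), t * a * t⁻¹ = u ∧ t * d * t⁻¹ = v := by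
  have hb := braid hD ha hd.1 hd.2
  have hA : a ∈ Subgroup.closure ({a, d} : Set G) := Subgroup.subset_closure (by simp)
  have hDd : d ∈ Subgroup.closure ({a, d} : Set G) := Subgroup.subset_closure (by simp)
  have s1 := sq hD ha
  have s2 := sq hD hd.1
  have c1 : ∀ z, a * (a * z) = z := fun z => by rw [← mul_assoc, s1, one_mul]
  have c2 : ∀ z, d * (d * z) = z := fun z => by rw [← mul_assoc, s2, one_mul]
  have i1 := inv_eq hD ha
  have i2 := inv_eq hD hd.1
  have b1 : a * (d * a) = d * (a * d) := by rw [← mul_assoc, hb, mul_assoc]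
  have b2 : ∀ z, d * (a * (d * z)) = a * (d * (a * z)) := fun z => by
    rw [← mul_assoc d a, ← mul_assoc (d * a), ← hb, mul_assoc, mul_assoc]
  simp only [Set.mem_insert_iff, Set.mem_singleton_iff] at hu hv
  rcases hu with rfl | rfl | rfl <;> rcases hv with rfl | rfl | rfl
  all_goals first | exact absurd rfl hne | skip
  · exact ⟨1, one_mem _, by group, by group⟩
  · exact ⟨u, hA, by group, by rw [i1]⟩
  · refine ⟨v * u * v, mul_mem (mul_mem hA hDd) hA, ?_, ?_⟩ <;>
      simp only [mul_inv_rev, i1, i2, mul_assoc, c1, c2, b1, b2, s1, s2, mul_one, one_mul]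
  · refine ⟨a * u, mul_mem hA hDd, ?_, ?_⟩ <;>
      simp only [mul_inv_rev, i1, i2, mul_assoc, c1, c2, b1, b2, s1, s2, mul_one, one_mul]
  · refine ⟨d * v, mul_mem hDd hA, ?_, ?_⟩ <;>
      simp only [mul_inv_rev, i1, i2, mul_assoc, c1, c2, b1, b2, s1, s2, mul_one, one_mul]
  · refine ⟨v, hDd, ?_, ?_⟩ <;>
      simp only [mul_inv_rev, i1, i2, mul_assoc, c1, c2, b1, b2, s1, s2, mul_one, one_mul]

end Plain

variable {G : Type*} [Group G] [Finite G] {D : Set G} {d₀ : G} {q : ModCenter (Subgroup.closure (nb D d₀))}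
  (hG : Cfg24 D d₀ q) [Gen D]

include hG

theorem normalizer_thirteen {a d b c : G} (ha : a ∈ D) (hd : d ∈ far D a) (hb : b ∈ common D a d)
    (hc : c ∈ common D a d) (hbc : ¬ Commute b c) {B : Subgroup G}
    (hBK : B ≤ Subgroup.centralizer ({a, b, c, d} : Set G)) (hB : Nat.card B = 13) :
    Subgroup.normalizer (B : Set G) ≤ Subgroup.normalizer (Subgroup.centralizer ({a, b, c, d} : Set G) : Set G) ∧
      Nat.card ↥(Subgroup.centralizer ({a, b, c, d} : Set G) ⊓ Subgroup.normalizer (B : Set G)) = 78 ∧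
      Subgroup.centralizer ({a, b, c, d} : Set G) ⊓ Subgroup.centralizer (B : Set G) = B ∧
      (((Subgroup.centralizer ({a, b, c, d} : Set G) ⊓ Subgroup.normalizer (B : Set G)) ⊔
        Subgroup.closure ({a, b, c, d} : Set G)).subgroupOf (Subgroup.normalizer (B : Set G))).index = 2 := by
  haveI : Fact (Nat.Prime 13) := ⟨by norm_num⟩
  have hD := hG.lay.tt
  have hV := env_thirteen hG
  have hfbc : c ∈ far D b := ⟨hc.1.1, hbc⟩
  set S : Set G := {a, b, c, d} with hSdef
  set K := Subgroup.centralizer S with hKdef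
  set N := Subgroup.normalizer (B : Set G)
  set P := Subgroup.closure ({a, d} : Set G) with hPdef
  set Q := Subgroup.closure ({b, c} : Set G) with hQdef
  set A : Set G := {a, d, a * d * a} with hAdef
  set A' : Set G := {b, c, b * c * b} with hA'def
  set F := fixSet D B with hFdef
  -- the six fixed members
  have hfix : ∀ x ∈ S, x ∈ D → x ∈ F := fun x hx hxD =>
    ⟨hxD, le_cent_singleton_iff.2 (hBK.trans (Subgroup.centralizer_le (by simpa using hx)))⟩
  have haF : a ∈ F := hfix a (by simp [hSdef]) ha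
  have hdF : d ∈ F := hfix d (by simp [hSdef]) hd.1
  have hbF : b ∈ F := hfix b (by simp [hSdef]) hb.1.1
  have hcF : c ∈ F := hfix c (by simp [hSdef]) hc.1.1
  have hAA' : ∀ x ∈ A, ∀ y ∈ A', Commute x y := by
    have k : ∀ y, y = b ∨ y = c → Commute a y ∧ Commute d y := by
      rintro y (rfl | rfl)
      exacts [⟨hb.1.2.2, hb.2.2.2⟩, ⟨hc.1.2.2, hc.2.2.2⟩]
    have k' : ∀ y ∈ A', Commute a y ∧ Commute d y := by
      intro y hy
      simp only [hA'def, Set.mem_insert_iff, Set.mem_singleton_iff] at hy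
      rcases hy with rfl | rfl | rfl
      · exact k _ (Or.inl rfl)
      · exact k _ (Or.inr rfl)
      · exact ⟨((k b (Or.inl rfl)).1.mul_right (k c (Or.inr rfl)).1).mul_right (k b (Or.inl rfl)).1,
          ((k b (Or.inl rfl)).2.mul_right (k c (Or.inr rfl)).2).mul_right (k b (Or.inl rfl)).2⟩
    intro x hx y hy
    simp only [hAdef, Set.mem_insert_iff, Set.mem_singleton_iff] at hx
    rcases hx with rfl | rfl | rfl
    · exact (k' y hy).1
    · exact (k' y hy).2
    · exact ((k' y hy).1.mul_left (k' y hy).2).mul_left (k' y hy).1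
  have hAF : A ⊆ F := by
    rintro x (rfl | rfl | rfl)
    exacts [haF, hdF, ⟨conj_mem' hD hd.1 ha, mul_mem (mul_mem haF.2 hdF.2) haF.2⟩]
  have hA'F : A' ⊆ F := by
    rintro x (rfl | rfl | rfl)
    exacts [hbF, hcF, ⟨conj_mem' hD hc.1.1 hb.1.1, mul_mem (mul_mem hbF.2 hcF.2) hbF.2⟩]
  have hnA := fun {x y : G} => line_noncomm hD ha hd (x := x) (y := y)
  have hnA' := fun {x y : G} => line_noncomm hD hb.1.1 hfbc (x := x) (y := y)
  have hAne : ∀ x ∈ A, ∃ y ∈ A, x ≠ y := fun x hx => by
    obtain ⟨y, hy, h⟩ := Set.exists_ne_of_one_lt_ncard (by rw [line_ncard hD ha hd]; norm_num : 1 < A.ncard) x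
    exact ⟨y, hy, h.symm⟩
  have hdisj : Disjoint A A' := Set.disjoint_left.2 fun x hx hx' => by
    obtain ⟨y, hy, hne⟩ := hAne x hx
    exact hnA hx hy hne (hAA' y hy x hx').symm
  have hFeq : F = A ∪ A' := by
    refine (Set.eq_of_subset_of_ncard_le (Set.union_subset hAF hA'F) ?_ (Set.toFinite _)).symm
    rw [Set.ncard_union_eq hdisj (Set.toFinite _) (Set.toFinite _), line_ncard hD ha hd,
      line_ncard hD hb.1.1 hfbc, ncard_fix_thirteen hG hB]
  -- how the normaliser moves the two lines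
  have hside : ∀ g ∈ N, ∀ P₀ Q₀ : Set G, (∀ x ∈ F, x ∈ P₀ ∨ x ∈ Q₀) → (∀ x ∈ P₀, ∀ y ∈ Q₀, Commute x y) →
      (∀ {x y : G}, x ∈ P₀ → y ∈ P₀ → x ≠ y → ¬ Commute x y) → g * a * g⁻¹ ∈ P₀ →
      (∀ x ∈ A, g * x * g⁻¹ ∈ P₀) ∧ ∀ x ∈ A', g * x * g⁻¹ ∈ Q₀ := by
    intro g hg P₀ Q₀ hcov hcom hnon hga
    constructor <;> intro x hx
    · by_cases hxa : a = x
      · rw [← hxa]; exact hga
      rcases hcov _ (conj_mem_fixSet hD hg (hAF hx)) with h | h
      · exact h
      · exact absurd ((Commute.conj_iff g).1 (hcom _ hga _ h)) (hnA (by simp [hAdef]) hx hxa)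
    · rcases hcov _ (conj_mem_fixSet hD hg (hA'F hx)) with h | h
      · exact absurd ((Commute.conj_iff g).2 (hAA' a (by simp [hAdef]) x hx))
          (hnon hga h fun e => Set.disjoint_left.1 hdisj (by simp [hAdef] : a ∈ A)
            (mul_left_cancel (mul_right_cancel e) ▸ hx))
      · exact h
  have hcov : ∀ x ∈ F, x ∈ A ∨ x ∈ A' := fun x hx => (Set.ext_iff.1 hFeq x).1 hx
  have hsame : ∀ g ∈ N, g * a * g⁻¹ ∈ A →
      (∀ x ∈ A, g * x * g⁻¹ ∈ A) ∧ ∀ x ∈ A', g * x * g⁻¹ ∈ A' := fun g hg h =>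
    hside g hg A A' hcov hAA' hnA h
  have hswap : ∀ g ∈ N, g * a * g⁻¹ ∈ A' →
      (∀ x ∈ A, g * x * g⁻¹ ∈ A') ∧ ∀ x ∈ A', g * x * g⁻¹ ∈ A := fun g hg h =>
    hside g hg A' A (fun x hx => (hcov x hx).symm) (fun x hx y hy => (hAA' y hy x hx).symm) hnA' h
  -- subgroups
  have hPC : P ≤ Subgroup.centralizer ({b, c} : Set G) := by
    rw [hPdef, Subgroup.closure_le]
    intro x hx
    refine Subgroup.mem_centralizer_iff.2 fun y hy => ?_
    exact (hAA' x (by rcases hx with rfl | rfl <;> simp [hAdef]) y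
      (by rcases hy with rfl | rfl <;> simp [hA'def])).eq.symm
  have hQC : Q ≤ Subgroup.centralizer ({a, d} : Set G) := by
    rw [hQdef, Subgroup.closure_le]
    intro x hx
    refine Subgroup.mem_centralizer_iff.2 fun y hy => ?_
    exact (hAA' y (by rcases hy with rfl | rfl <;> simp [hAdef]) x
      (by rcases hx with rfl | rfl <;> simp [hA'def])).eq
  have hPQc : ∀ p ∈ P, ∀ r ∈ Q, Commute p r := fun p hp r hr => pair_commutes hp (hQC hr)
  have hPQb : P ⊓ Q = ⊥ := le_bot_iff.1 ((inf_le_inf le_rfl hQC).trans (pair_inf_centralizer hD ha hd).le)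
  obtain ⟨hPQ, hPQe⟩ := sup_of_commute hPQc hPQb
  have hT : Subgroup.closure S = P ⊔ Q := by
    rw [hPdef, hQdef, ← Subgroup.closure_union]
    congr 1
    ext x
    simp only [hSdef, Set.mem_union, Set.mem_insert_iff, Set.mem_singleton_iff]
    tauto
  have hP6 : Nat.card P = 6 := by
    obtain ⟨e⟩ := pair_iso_sym3 hD ha hd
    rw [Nat.card_congr e.toEquiv, Nat.card_perm, Nat.card_fin]; rfl
  have hQ6 : Nat.card Q = 6 := by
    obtain ⟨e⟩ := pair_iso_sym3 hD hb.1.1 hfbc
    rw [Nat.card_congr e.toEquiv, Nat.card_perm, Nat.card_fin]; rfl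
  have hTC : Subgroup.closure S ≤ Subgroup.centralizer (B : Set G) := (Subgroup.closure_le _).2 fun x hx => by
    simp only [hSdef, Set.mem_insert_iff, Set.mem_singleton_iff] at hx
    rcases hx with rfl | rfl | rfl | rfl
    exacts [haF.2, hbF.2, hcF.2, hdF.2]
  have hTN : Subgroup.closure S ≤ N := hTC.trans (Subgroup.centralizer_le_normalizer _)
  have hKT : ∀ k ∈ K, ∀ t ∈ Subgroup.closure S, Commute k t := fun k hk t ht =>
    (Subgroup.mem_centralizer_iff.1 ((centralizer_closure_set S).symm ▸ hk : k ∈ Subgroup.centralizer (Subgroup.closure S : Set G)) t ht).symm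
  have hKtriv : ∀ k ∈ K, ∀ p ∈ P, ∀ r ∈ Q, k = p * r → k = 1 := by
    intro k hk p hp r hr e
    have hk1 : k ∈ Subgroup.centralizer ({a, d} : Set G) := Subgroup.centralizer_le (by simp [hSdef, Set.subset_def]) hk
    have hk2 : k ∈ Subgroup.centralizer ({b, c} : Set G) := Subgroup.centralizer_le (by simp [hSdef, Set.subset_def]) hk
    have hp1 : p = 1 := by
      rw [← Subgroup.mem_bot, ← pair_inf_centralizer hD ha hd]
      refine Subgroup.mem_inf.2 ⟨hp, ?_⟩
      rw [show p = k * r⁻¹ by rw [e, mul_inv_cancel_right]]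
      exact mul_mem hk1 (inv_mem (hQC hr))
    subst hp1
    rw [one_mul] at e
    subst e
    rw [← Subgroup.mem_bot, ← pair_inf_centralizer hD hb.1.1 hfbc]
    exact Subgroup.mem_inf.2 ⟨hr, hk2⟩
  -- the centraliser in `K`
  have hBC : B ≤ Subgroup.centralizer (B : Set G) := by
    haveI := isCyclic_of_prime_card hB
    exact fun x hx => Subgroup.mem_centralizer_iff.2 fun y hy => congrArg Subtype.val
      ((IsCyclic.commutative (α := B)).is_comm.comm ⟨y, hy⟩ ⟨x, hx⟩)
  have hK0 : K ⊓ Subgroup.centralizer (B : Set G) = B := by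
    refine (Subgroup.eq_of_le_of_card_ge (le_inf hBK hBC) ?_).symm
    set K0 := K ⊓ Subgroup.centralizer (B : Set G)
    have haP : a ∈ P := Subgroup.subset_closure (by simp)
    have hzP : Subgroup.zpowers a ≤ P := Subgroup.zpowers_le.2 haP
    have hzQb : Subgroup.zpowers a ⊓ Q = ⊥ := le_bot_iff.1 ((inf_le_inf hzP le_rfl).trans hPQb.le)
    obtain ⟨h12, h12e⟩ := sup_of_commute (fun p hp r hr => hPQc p (hzP hp) r hr) hzQb
    set W := Subgroup.zpowers a ⊔ Q
    have hWT : W ≤ Subgroup.closure S := hT ▸ sup_le_sup hzP le_rfl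
    have hWKb : K0 ⊓ W = ⊥ := le_bot_iff.1 fun k hk => by
      obtain ⟨p, hp, r, hr, e⟩ := h12e k (Subgroup.mem_inf.1 hk).2
      exact Subgroup.mem_bot.2 (hKtriv k (Subgroup.mem_inf.1 (Subgroup.mem_inf.1 hk).1).1 p (hzP hp) r hr e.symm)
    obtain ⟨hcard, -⟩ := sup_of_commute (fun k hk t ht => hKT k (Subgroup.mem_inf.1 hk).1 t (hWT ht)) hWKb
    have hle : K0 ⊔ W ≤ Subgroup.centralizer (B : Set G) ⊓ Subgroup.centralizer ({a} : Set G) := by
      refine sup_le (le_inf inf_le_right (inf_le_left.trans (Subgroup.centralizer_le (by simp [hSdef]))))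
        (le_inf (hWT.trans hTC) (sup_le ?_ (hQC.trans (Subgroup.centralizer_le (by simp)))))
      exact Subgroup.zpowers_le.2 (Subgroup.mem_centralizer_singleton_iff.2 rfl)
    have h156 := Nat.le_of_dvd Nat.card_pos (Subgroup.card_dvd_of_le hle)
    rw [hcard, h12, hQ6, Nat.card_zpowers, hD.1.1 a ha, hV.card_cent_inf hB haF] at h156
    rw [hB]
    show Nat.card ↥(K ⊓ Subgroup.centralizer (B : Set G)) ≤ 13
    omega
  -- the stabiliser of the two lines
  set H := (K ⊓ N) ⊔ Subgroup.closure S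
  have hHN : H ≤ N := sup_le inf_le_right hTN
  have hHmem : ∀ g ∈ N, g ∈ H ↔ g * a * g⁻¹ ∈ A := by
    intro g hg
    constructor
    · intro hgH
      obtain ⟨-, hdec⟩ := sup_of_commute (U := K ⊓ N) (V := Subgroup.closure S)
        (fun k hk t ht => hKT k hk.1 t ht) (le_bot_iff.1 fun k hk => by
          obtain ⟨p, hp, r, hr, e⟩ := hPQe k (hT ▸ hk.2)
          exact Subgroup.mem_bot.2 (hKtriv k hk.1.1 p hp r hr e.symm))
      obtain ⟨k, hk, t, ht, rfl⟩ := hdec g hgH
      obtain ⟨p, hp, r, hr, rfl⟩ := hPQe t (hT ▸ ht)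
      have hka : k * a * k⁻¹ = a := mem_cent_singleton_iff.1 (Subgroup.centralizer_le (by simp [hSdef]) hk.1)
      have hra : r * a * r⁻¹ = a := mem_cent_singleton_iff.1 (Subgroup.centralizer_le (by simp) (hQC hr))
      rw [show k * (p * r) * a * (k * (p * r))⁻¹ = k * (p * (r * a * r⁻¹) * p⁻¹) * k⁻¹ by group, hra]
      -- `p` keeps `a` inside the line
      set u := p * a * p⁻¹ with hu
      have hpN : p ∈ N := hTN (hT ▸ Subgroup.mem_sup_left hp)
      have huF : u ∈ F := conj_mem_fixSet hD hpN haF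
      have huA : u ∈ A := by
        rcases hcov u huF with h | h
        · exact h
        · exfalso
          have hpb : p * b * p⁻¹ = b := mem_cent_singleton_iff.1 (Subgroup.centralizer_le (by simp) (hPC hp))
          have hb' : b ∈ A' := by simp [hA'def]
          have := (hswap p hpN h).2 b hb'
          rw [hpb] at this
          exact Set.disjoint_left.1 hdisj this hb'
      have hku : k * u * k⁻¹ = u := by
        have : Commute k u := hKT k hk.1 u (hT ▸ Subgroup.mem_sup_left
          (mul_mem (mul_mem hp (Subgroup.subset_closure (by simp))) (inv_mem hp)))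
        rw [this.eq, mul_inv_cancel_right]
      rw [hku]; exact huA
    · intro hga
      obtain ⟨hA1, hA2⟩ := hsame g hg hga
      have inj : ∀ {x y : G}, x ≠ y → g * x * g⁻¹ ≠ g * y * g⁻¹ := fun h e => h (mul_left_cancel (mul_right_cancel e))
      obtain ⟨t, htP, ht1, ht2⟩ := line_perm hD ha hd (hA1 a (by simp [hAdef])) (hA1 d (by simp [hAdef]))
        (inj fun e => hd.2 (e ▸ Commute.refl a))
      obtain ⟨s, hsQ, hs1, hs2⟩ := line_perm hD hb.1.1 hfbc (hA2 b (by simp [hA'def])) (hA2 c (by simp [hA'def]))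
        (inj fun e => hbc (e ▸ Commute.refl b))
      have hts : t * s ∈ Subgroup.closure S := hT ▸ mul_mem (Subgroup.mem_sup_left htP) (Subgroup.mem_sup_right hsQ)
      have cT : ∀ z, Commute t z → t * z * t⁻¹ = z := fun z h => by rw [h.eq, mul_inv_cancel_right]
      have cS : ∀ z, Commute s z → s * z * s⁻¹ = z := fun z h => by rw [h.eq, mul_inv_cancel_right]
      have hPm : ∀ z, z = a ∨ z = d → z ∈ P := fun z h => Subgroup.subset_closure (by simpa using h)
      have hQm : ∀ z, z = b ∨ z = c → z ∈ Q := fun z h => Subgroup.subset_closure (by simpa using h)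
      have hk : (t * s)⁻¹ * g ∈ K := by
        refine Subgroup.mem_centralizer_iff.2 fun z hz => ?_
        have hgz : g * z * g⁻¹ = t * s * z * (t * s)⁻¹ := by
          rw [show t * s * z * (t * s)⁻¹ = t * (s * z * s⁻¹) * t⁻¹ by group]
          simp only [hSdef, Set.mem_insert_iff, Set.mem_singleton_iff] at hz
          rcases hz with rfl | rfl | rfl | rfl
          · rw [cS _ (hPQc _ (hPm _ (Or.inl rfl)) s hsQ).symm, ht1]
          · rw [hs1, cT]; rw [← hs1]
            exact hPQc t htP _ (mul_mem (mul_mem hsQ (hQm _ (Or.inl rfl))) (inv_mem hsQ))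
          · rw [hs2, cT]; rw [← hs2]
            exact hPQc t htP _ (mul_mem (mul_mem hsQ (hQm _ (Or.inr rfl))) (inv_mem hsQ))
          · rw [cS _ (hPQc _ (hPm _ (Or.inr rfl)) s hsQ).symm, ht2]
        calc z * ((t * s)⁻¹ * g) = (t * s)⁻¹ * (t * s * z * (t * s)⁻¹) * g := by group
          _ = (t * s)⁻¹ * (g * z * g⁻¹) * g := by rw [hgz]
          _ = (t * s)⁻¹ * g * z := by group
      have := mul_mem (Subgroup.mem_sup_right hts : t * s ∈ H)
        (Subgroup.mem_sup_left (Subgroup.mem_inf.2 ⟨hk, mul_mem (inv_mem (hTN hts)) hg⟩ : (t * s)⁻¹ * g ∈ K ⊓ N))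
      rwa [mul_inv_cancel_left] at this
  -- the index
  have hidx : (H.subgroupOf N).index = 2 := by
    obtain ⟨g₀, hg₀, hg₀a⟩ := hV.trans hB haF hbF
    refine Subgroup.index_eq_two_iff.2 ⟨⟨g₀, hg₀⟩, fun g => ?_⟩
    simp only [Subgroup.mem_subgroupOf, Subgroup.coe_mul]
    rw [hHmem _ (mul_mem g.2 hg₀), hHmem _ g.2]
    have e : (g : G) * g₀ * a * ((g : G) * g₀)⁻¹ = (g : G) * b * (g : G)⁻¹ := by rw [← hg₀a]; group
    rw [e]
    by_cases h : (g : G) * a * (g : G)⁻¹ ∈ A
    · refine Or.inr ⟨h, fun h' => Set.disjoint_left.1 hdisj h' ((hsame g g.2 h).2 b (by simp [hA'def]))⟩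
    · exact Or.inl ⟨(hswap g g.2 ((hcov _ (conj_mem_fixSet hD g.2 haF)).resolve_left h)).2 b (by simp [hA'def]), h⟩
  refine ⟨?_, ?_, hK0, hidx⟩
  · intro g hg
    have hT' : (Subgroup.closure S).map (MulAut.conj g).toMonoidHom = Subgroup.closure S := by
      refine Subgroup.eq_of_le_of_card_ge ?_ (card_map_conj _ g).ge
      rw [MonoidHom.map_closure, Subgroup.closure_le]
      rintro _ ⟨x, hx, rfl⟩
      have hxF : x ∈ F := by
        simp only [hSdef, Set.mem_insert_iff, Set.mem_singleton_iff] at hx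
        rcases hx with rfl | rfl | rfl | rfl
        exacts [haF, hbF, hcF, hdF]
      have hm := fun z (h : z ∈ S) => (Subgroup.subset_closure h : z ∈ Subgroup.closure S)
      show g * x * g⁻¹ ∈ Subgroup.closure S
      rcases hcov _ (conj_mem_fixSet hD hg hxF) with h | h
      · rcases h with h | h | h <;> rw [h]
        exacts [hm a (by simp [hSdef]), hm d (by simp [hSdef]),
          mul_mem (mul_mem (hm a (by simp [hSdef])) (hm d (by simp [hSdef]))) (hm a (by simp [hSdef]))]
      · rcases h with h | h | h <;> rw [h]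
        exacts [hm b (by simp [hSdef]), hm c (by simp [hSdef]),
          mul_mem (mul_mem (hm b (by simp [hSdef])) (hm c (by simp [hSdef]))) (hm b (by simp [hSdef]))]
    rw [hKdef, ← centralizer_closure_set S]
    refine mem_normalizer_of_map ?_
    rw [map_centralizer_equiv (MulAut.conj g)]
    have e : (⇑(MulAut.conj g) '' (Subgroup.closure S : Set G)) = (Subgroup.closure S : Set G) :=
      congrArg (fun U : Subgroup G => (U : Set G)) hT'
    rw [e]
  · have hcardH := (sup_of_commute (U := K ⊓ N) (V := Subgroup.closure S) (fun k hk t ht => hKT k hk.1 t ht)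
      (le_bot_iff.1 fun k hk => by
        obtain ⟨p, hp, r, hr, e⟩ := hPQe k (hT ▸ hk.2)
        exact Subgroup.mem_bot.2 (hKtriv k hk.1.1 p hp r hr e.symm))).1
    have hm := Subgroup.card_mul_index (H.subgroupOf N)
    rw [hidx, Nat.card_congr (Subgroup.subgroupOfEquivOfLe hHN).toEquiv, hV.card_norm hB, ← hFdef,
      ncard_fix_thirteen hG hB, hcardH, hT, hPQ, hP6, hQ6] at hm
    omega

end Cfsg.Agent.TT95N
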