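import Cfsg.Agent.TT95N.Fix

/-!
Conjugacy and orders for subgroups of prime order, from the same facts in the local group.
-/

set_option autoImplicit false
set_option linter.unusedSectionVars false

namespace Cfsg.Agent.TT95N

open Cfsg.Agent.TT95

theorem map_centralizer_equiv {Q Q' : Type*} [Group Q] [Group Q'] (e : Q ≃* Q') (S : Set Q) :
    (Subgroup.centralizer S).map e.toMonoidHom = Subgroup.centralizer (e '' S) := by
  ext x
  obtain ⟨y, rfl⟩ := e.surjective x
  rw [Subgroup.mem_map_equiv, MulEquiv.symm_apply_apply, Subgroup.mem_centralizer_iff, Subgroup.mem_centralizer_iff]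
  refine ⟨?_, fun h z hz => e.injective (by simpa only [map_mul] using h _ ⟨z, hz, rfl⟩)⟩
  rintro h _ ⟨z, hz, rfl⟩
  rw [← map_mul, ← map_mul, h z hz]

theorem map_normalizer_equiv {Q Q' : Type*} [Group Q] [Group Q'] (e : Q ≃* Q') (X : Subgroup Q) :
    (Subgroup.normalizer (X : Set Q)).map e.toMonoidHom = Subgroup.normalizer (X.map e.toMonoidHom : Set Q') := by
  ext x
  obtain ⟨y, rfl⟩ := e.surjective x
  rw [Subgroup.mem_map_equiv, MulEquiv.symm_apply_apply, Subgroup.mem_normalizer_iff, Subgroup.mem_normalizer_iff]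
  constructor
  · intro h z
    obtain ⟨w, rfl⟩ := e.surjective z
    rw [← map_inv, ← map_mul, ← map_mul, Subgroup.mem_map_equiv, Subgroup.mem_map_equiv, MulEquiv.symm_apply_apply,
      MulEquiv.symm_apply_apply]
    exact h w
  · intro h z
    have := h (e z)
    rwa [← map_inv, ← map_mul, ← map_mul, Subgroup.mem_map_equiv, Subgroup.mem_map_equiv, MulEquiv.symm_apply_apply,
      MulEquiv.symm_apply_apply] at this

theorem PData.map {Q Q' : Type*} [Group Q] [Group Q'] {E : Set Q} {p f nN nC : ℕ} (h : PData E p f nN nC)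
    (e : Q ≃* Q') : PData (e '' E) p f nN nC := by
  have back : ∀ X : Subgroup Q', Nat.card X = p →
      ∃ X₀ : Subgroup Q, Nat.card X₀ = p ∧ X₀.map e.toMonoidHom = X := fun X hX =>
    ⟨X.map e.symm.toMonoidHom, by rw [Subgroup.card_map_of_injective e.symm.injective, hX], by
      rw [Subgroup.map_map]; convert Subgroup.map_id X; ext x; simp⟩
  constructor
  · intro X Y hX hY
    obtain ⟨X₀, h1, rfl⟩ := back X hX
    obtain ⟨Y₀, h2, rfl⟩ := back Y hY
    obtain ⟨g, rfl⟩ := h.conj X₀ Y₀ h1 h2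
    refine ⟨e g, ?_⟩
    rw [Subgroup.map_map, Subgroup.map_map]
    congr 1
    ext x
    simp
  · intro X hX
    obtain ⟨X₀, h1, rfl⟩ := back X hX
    rw [Subgroup.coe_map, show ((e.toMonoidHom : Q → Q') '' (X₀ : Set Q)) = e '' (X₀ : Set Q) from rfl,
      ← map_centralizer_equiv e, Subgroup.coe_map]
    show (e '' E ∩ e '' _).ncard = f
    rw [← Set.image_inter e.injective, Set.ncard_image_of_injective _ e.injective]
    exact h.fix X₀ h1
  · intro X hX
    obtain ⟨X₀, h1, rfl⟩ := back X hX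
    rw [← map_normalizer_equiv e, Subgroup.card_map_of_injective e.injective]
    exact h.norm X₀ h1
  · intro X hX
    obtain ⟨X₀, h1, rfl⟩ := back X hX
    rw [Subgroup.coe_map, show ((e.toMonoidHom : Q → Q') '' (X₀ : Set Q)) = e '' (X₀ : Set Q) from rfl,
      ← map_centralizer_equiv e, Subgroup.card_map_of_injective e.injective]
    exact h.cent X₀ h1
  · intro X hX
    obtain ⟨X₀, h1, rfl⟩ := back X hX
    rintro _ ⟨x, hx, rfl⟩ _ ⟨y, hy, rfl⟩ hx' hy'
    rw [Subgroup.coe_map, show ((e.toMonoidHom : Q → Q') '' (X₀ : Set Q)) = e '' (X₀ : Set Q) from rfl,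
      ← map_centralizer_equiv e, Subgroup.mem_map_equiv, MulEquiv.symm_apply_apply] at hx' hy'
    obtain ⟨g, hg, e'⟩ := h.trans X₀ h1 x hx y hy hx' hy'
    refine ⟨e g, ?_, by rw [← map_inv, ← map_mul, ← map_mul, e']⟩
    rw [← map_normalizer_equiv e, Subgroup.mem_map_equiv, MulEquiv.symm_apply_apply]
    exact hg

variable {G : Type*} [Group G] {D : Set G}

/-- Conjugate members have isomorphic local groups. -/
theorem exists_locEquiv (hD : TTSet D) (g a : G) :
    ∃ e : ModCenter (Subgroup.closure (nb D a)) ≃* ModCenter (Subgroup.closure (nb D (g * a * g⁻¹))),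
      e '' locSet D a = locSet D (g * a * g⁻¹) := by
  have hmap : (Subgroup.closure (nb D a)).map (MulAut.conj g).toMonoidHom =
      Subgroup.closure (nb D (g * a * g⁻¹)) := by
    rw [MonoidHom.map_closure, nb_conj_image hD]
    rfl
  set θ := ((Subgroup.closure (nb D a)).equivMapOfInjective (MulAut.conj g).toMonoidHom
    (MulAut.conj g).injective).trans (MulEquiv.subgroupCongr hmap) with hθ
  have hcen : (Subgroup.center (Subgroup.closure (nb D a))).map (θ : _ →* _) =
      Subgroup.center (Subgroup.closure (nb D (g * a * g⁻¹))) := by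
    ext z
    obtain ⟨w, rfl⟩ := θ.surjective z
    rw [Subgroup.mem_center_iff]
    constructor
    · rintro ⟨v, hv, e⟩ u
      obtain ⟨u, rfl⟩ := θ.surjective u
      rw [← θ.injective e, ← map_mul, ← map_mul, Subgroup.mem_center_iff.1 hv u]
    · intro h
      exact ⟨w, Subgroup.mem_center_iff.2 fun u => θ.injective (by simpa only [map_mul] using h (θ u)), rfl⟩
  set eQ := QuotientGroup.congr _ _ θ hcen with heQ
  refine ⟨eQ, ?_⟩
  ext q
  constructor
  · rintro ⟨r, hr, rfl⟩
    obtain ⟨x, hx, rfl, h1⟩ := exists_of_mem_locSet hD hr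
    refine ⟨fun e => h1 ((map_eq_one_iff _ (MulEquiv.injective _)).1 e), θ ⟨x, Subgroup.subset_closure hx⟩, ?_, rfl⟩
    exact (nb_conj hD g a x).2 hx
  · intro hq
    obtain ⟨y, hy, rfl, h1⟩ := exists_of_mem_locSet hD hq
    obtain ⟨x, hx, rfl⟩ : ∃ x ∈ nb D a, g * x * g⁻¹ = y := by
      rw [nb_conj_image hD] at hy; exact hy
    refine ⟨mkNb hx, mkNb_mem hD hx fun e => h1 ?_, rfl⟩
    show eQ (mkNb hx) = 1
    rw [e, map_one]

/-- The local data at one member are the data at every member. -/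
theorem PData.everywhere (hD : TTSet D) (hone : OneClass D) {d : G} (hd : d ∈ D) {p f nN nC : ℕ}
    (h : PData (locSet D d) p f nN nC) : ∀ a ∈ D, PData (locSet D a) p f nN nC := fun a ha => by
  obtain ⟨g, rfl⟩ := hone d hd a ha
  obtain ⟨e, he⟩ := exists_locEquiv hD g d
  exact he ▸ h.map e

/-- The standing hypotheses on a class of 3-transpositions and a prime. -/
structure Env (D : Set G) (n k l s t p f nN nC : ℕ) : Prop where
  lay : Lay D n k l s t
  cent : ∀ a ∈ D, Subgroup.centralizer ({a} : Set G) = Subgroup.closure (nb D a)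
  prime : p.Prime
  odd : p ≠ 2
  ndvd : ¬ p ∣ n
  data : ∀ a ∈ D, PData (locSet D a) p f nN nC

variable [Finite G] {n k l s t p f nN nC : ℕ} (hV : Env D n k l s t p f nN nC)

include hV

theorem Env.fix_nonempty {X : Subgroup G} (hX : Nat.card X = p) : (fixSet D X).Nonempty := by
  haveI := Fact.mk hV.prime
  have h := fix_modEq (S := D) (isPGroup_of_card hX) fun x _ a ha => TT95.conj_mem hV.lay.tt x ha
  rw [hV.lay.card_D] at h
  refine Set.nonempty_of_ncard_ne_zero fun e => hV.ndvd ?_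
  rw [e] at h
  exact Nat.modEq_zero_iff_dvd.1 h

theorem Env.le_cent {X : Subgroup G} {a : G} (ha : a ∈ fixSet D X) : X ≤ Subgroup.centralizer ({a} : Set G) :=
  le_cent_singleton_iff.1 ha.2

theorem Env.conj_local {X Y : Subgroup G} {a : G} (ha : a ∈ D) (hX : Nat.card X = p) (hY : Nat.card Y = p)
    (hXa : X ≤ Subgroup.centralizer ({a} : Set G)) (hYa : Y ≤ Subgroup.centralizer ({a} : Set G)) :
    ∃ g : G, g * a * g⁻¹ = a ∧ X.map (MulAut.conj g).toMonoidHom = Y := by
  have hC := hV.cent a ha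
  obtain ⟨q, hq⟩ := (hV.data a ha).conj _ _ (card_xbar hV.lay ha hC hV.prime hV.odd hX hXa)
    (card_xbar hV.lay ha hC hV.prime hV.odd hY hYa)
  obtain ⟨h, rfl⟩ := QuotientGroup.mk'_surjective _ q
  refine ⟨h, conj_fix_of_mem hV.lay.tt h.2,
    Subgroup.eq_of_le_of_card_ge ?_ (le_of_eq (hY.trans ((card_map_conj X _).trans hX).symm))⟩
  rintro _ ⟨x, hx, rfl⟩
  obtain ⟨y, hy, rfl⟩ := exists_sq hV.prime hV.odd hX hx
  show (h : G) * (y * y) * (h : G)⁻¹ ∈ Y
  have hyH : y ∈ Subgroup.closure (nb D a) := hC ▸ hXa hy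
  have hm : (QuotientGroup.mk h : ModCenter (Subgroup.closure (nb D a))) * QuotientGroup.mk ⟨y, hyH⟩ *
      (QuotientGroup.mk h)⁻¹ ∈ xbar D a Y := hq ▸ ⟨_, ⟨_, hy, rfl⟩, rfl⟩
  obtain ⟨⟨y', hy'H⟩, hy', e⟩ := hm
  rw [QuotientGroup.mk'_apply, ← QuotientGroup.mk_inv, ← QuotientGroup.mk_mul, ← QuotientGroup.mk_mul,
    QuotientGroup.eq, center_eq hV.lay ha hC, Subgroup.mem_subgroupOf] at e
  obtain ⟨i, hi⟩ := Subgroup.mem_zpowers_iff.1 e
  simp only [Subgroup.coe_mul, Subgroup.coe_inv] at hi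
  have hz : (h : G) * y * (h : G)⁻¹ = y' * a ^ i := by rw [hi]; group
  have hax : Commute (a ^ i) y' := (commute_closure_nb hV.lay.tt hy'H).zpow_left i
  have ha2 : a ^ i * a ^ i = 1 := by
    rw [← zpow_add, ← two_mul, zpow_mul, zpow_two, TT95.sq hV.lay.tt ha, one_zpow]
  have : (h : G) * (y * y) * (h : G)⁻¹ = y' * y' := by
    calc (h : G) * (y * y) * (h : G)⁻¹ = ((h : G) * y * (h : G)⁻¹) * ((h : G) * y * (h : G)⁻¹) := by group
      _ = y' * (a ^ i * y') * a ^ i := by rw [hz]; group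
      _ = y' * y' * (a ^ i * a ^ i) := by rw [hax.eq]; group
      _ = y' * y' := by rw [ha2, mul_one]
  rw [this]
  exact mul_mem hy' hy'

/-- Subgroups of order `p` are conjugate. -/
theorem Env.conj_all (X Y : Subgroup G) (hX : Nat.card X = p) (hY : Nat.card Y = p) :
    ∃ g : G, X.map (MulAut.conj g).toMonoidHom = Y := by
  obtain ⟨a, ha⟩ := hV.fix_nonempty hX
  obtain ⟨b, hb⟩ := hV.fix_nonempty hY
  obtain ⟨g, hg⟩ := hV.lay.one a ha.1 b hb.1
  obtain ⟨h, -, hh⟩ := hV.conj_local hb.1 ((card_map_conj X g).trans hX) hY (X := X.map (MulAut.conj g).toMonoidHom) (by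
    rintro _ ⟨x, hx, rfl⟩
    rw [← hg, Subgroup.mem_centralizer_singleton_iff]
    exact ((Commute.conj_iff g).2 (Subgroup.mem_centralizer_singleton_iff.1 (hV.le_cent ha hx))).eq)
    (hV.le_cent hb)
  exact ⟨h * g, by rw [← map_conj_conj, hh]⟩

/-- The normaliser is transitive on the fixed members. -/
theorem Env.trans {X : Subgroup G} (hX : Nat.card X = p) {a b : G} (ha : a ∈ fixSet D X) (hb : b ∈ fixSet D X) :
    ∃ g ∈ Subgroup.normalizer (X : Set G), g * a * g⁻¹ = b := by
  obtain ⟨g, hg⟩ := hV.lay.one a ha.1 b hb.1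
  obtain ⟨h, hh, hh'⟩ := hV.conj_local hb.1 ((card_map_conj X g).trans hX) hX (X := X.map (MulAut.conj g).toMonoidHom) (by
    rintro _ ⟨x, hx, rfl⟩
    rw [← hg, Subgroup.mem_centralizer_singleton_iff]
    exact ((Commute.conj_iff g).2 (Subgroup.mem_centralizer_singleton_iff.1 (hV.le_cent ha hx))).eq)
    (hV.le_cent hb)
  refine ⟨h * g, mem_normalizer_of_map (by rw [← map_conj_conj, hh']), ?_⟩
  rw [mul_inv_rev, show h * g * a * (g⁻¹ * h⁻¹) = h * (g * a * g⁻¹) * h⁻¹ by group, hg, hh]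

/-- The order of the normaliser. -/
theorem Env.card_norm {X : Subgroup G} (hX : Nat.card X = p) :
    Nat.card (Subgroup.normalizer (X : Set G)) = (fixSet D X).ncard * (2 * nN) := by
  obtain ⟨a, ha⟩ := hV.fix_nonempty hX
  have hC := hV.cent a ha.1
  set N := Subgroup.normalizer (X : Set G)
  rw [card_eq_mul_of_fibres (fun g : N => (g : G) * a * (g : G)⁻¹)
    ((Subgroup.centralizer ({a} : Set G)).subgroupOf N) (fun g g' => by
      rw [Subgroup.mem_subgroupOf]; exact conj_eq_conj_iff (g := (g : G)) (g' := (g' : G)))]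
  have hr : Set.range (fun g : N => (g : G) * a * (g : G)⁻¹) = fixSet D X := by
    ext x
    constructor
    · rintro ⟨g, rfl⟩
      exact conj_mem_fixSet hV.lay.tt g.2 ha
    · intro hx
      obtain ⟨g, hg, e⟩ := hV.trans hX ha hx
      exact ⟨⟨g, hg⟩, e⟩
  rw [hr, ← (hV.data a ha.1).norm _ (card_xbar hV.lay ha.1 hC hV.prime hV.odd hX (hV.le_cent ha)),
    ← card_norm_local hV.lay ha.1 hC hV.prime hV.odd hX (hV.le_cent ha),
    ← Nat.card_congr (Subgroup.subgroupOfEquivOfLe (inf_le_left (b := Subgroup.centralizer ({a} : Set G)) : N ⊓ _ ≤ N)).toEquiv]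
  congr 2
  rw [inf_comm, Subgroup.inf_subgroupOf_right]

/-- Inside the centraliser of a fixed member the normaliser is transitive on its fixed neighbours. -/
theorem Env.trans_nb {X : Subgroup G} (hX : Nat.card X = p) {a b b' : G} (ha : a ∈ fixSet D X)
    (hb : b ∈ fixSet D X ∩ nb D a) (hb' : b' ∈ fixSet D X ∩ nb D a) :
    ∃ g ∈ Subgroup.normalizer (X : Set G), g * a * g⁻¹ = a ∧ g * b * g⁻¹ = b' := by
  have hC := hV.cent a ha.1
  have hXa := hV.le_cent ha
  have hne := fun {x : G} (hx : x ∈ nb D a) => mkNb_ne_one hV.lay.tt hV.lay.one hV.lay.tf ha.1 hx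
  obtain ⟨q, hq, e⟩ := (hV.data a ha.1).trans _ (card_xbar hV.lay ha.1 hC hV.prime hV.odd hX hXa) _
    (mkNb_mem hV.lay.tt hb.2 (hne hb.2)) _ (mkNb_mem hV.lay.tt hb'.2 (hne hb'.2))
    ((mkNb_mem_cent_iff hV.lay ha.1 hC hV.prime hV.odd hX hXa hb.2).2 hb.1.2)
    ((mkNb_mem_cent_iff hV.lay ha.1 hC hV.prime hV.odd hX hXa hb'.2).2 hb'.1.2)
  obtain ⟨h, rfl⟩ := QuotientGroup.mk'_surjective _ q
  have hh : h ∈ (Subgroup.normalizer (X : Set G) ⊓ Subgroup.centralizer ({a} : Set G)).subgroupOf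
      (Subgroup.closure (nb D a)) := by
    rw [norm_local hV.lay ha.1 hC hV.prime hV.odd hX hXa]
    exact hq
  refine ⟨h, hh.1, conj_fix_of_mem hV.lay.tt h.2, ?_⟩
  have hx' := conj_mem_nb hV.lay.tt h.2 hb.2
  refine eq_of_mkNb_eq hV.lay.tt hx' hb'.2 (hne hx') ?_
  rw [← e]
  show QuotientGroup.mk' _ (h * (⟨b, Subgroup.subset_closure hb.2⟩ : Subgroup.closure (nb D a)) * h⁻¹) = _
  rw [map_mul, map_mul, map_inv]
  rfl

theorem Env.card_cent_inf {X : Subgroup G} (hX : Nat.card X = p) {a : G} (ha : a ∈ fixSet D X) :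
    Nat.card (Subgroup.centralizer (X : Set G) ⊓ Subgroup.centralizer ({a} : Set G) : Subgroup G) = 2 * nC := by
  rw [card_cent_local hV.lay ha.1 (hV.cent a ha.1) hV.prime hV.odd hX (hV.le_cent ha),
    (hV.data a ha.1).cent _ (card_xbar hV.lay ha.1 (hV.cent a ha.1) hV.prime hV.odd hX (hV.le_cent ha))]

/-- Each fixed member has `f` fixed neighbours. -/
theorem Env.ncard_fix_nb {X : Subgroup G} (hX : Nat.card X = p) {a : G} (ha : a ∈ fixSet D X) :
    (fixSet D X ∩ nb D a).ncard = f := by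
  rw [TT95N.ncard_fix_nb hV.lay ha.1 (hV.cent a ha.1) hV.prime hV.odd hX (hV.le_cent ha)]
  exact (hV.data a ha.1).fix _ (card_xbar hV.lay ha.1 (hV.cent a ha.1) hV.prime hV.odd hX (hV.le_cent ha))

omit hV

/-- No member not commuting with a fixed one is fixed, when `p` divides their number and `p²` does not
divide the centraliser order. -/
theorem far_not_fix (hD : TTSet D) {a : G} (ha : a ∈ D) {m : ℕ} {X : Subgroup G} (hX : Nat.card X = p)
    (hXa : X ≤ Subgroup.centralizer ({a} : Set G)) (hfar : ∀ e ∈ far D a, ∀ e' ∈ far D a,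
      ∃ g ∈ Subgroup.centralizer ({a} : Set G), g * e * g⁻¹ = e') (hm : (far D a).ncard = m) (hpm : p ∣ m)
    (hpp : ¬ p * p ∣ Nat.card (Subgroup.centralizer ({a} : Set G))) {e : G} (he : e ∈ far D a) :
    e ∉ fixSet D X := by
  intro hf
  apply hpp
  set C := Subgroup.centralizer ({a} : Set G)
  rw [card_eq_mul_of_fibres (fun g : C => (g : G) * e * (g : G)⁻¹)
    ((Subgroup.centralizer ({e} : Set G)).subgroupOf C) (fun g g' => by
      rw [Subgroup.mem_subgroupOf]; exact conj_eq_conj_iff (g := (g : G)) (g' := (g' : G)))]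
  refine mul_dvd_mul ?_ ?_
  · have hr : Set.range (fun g : C => (g : G) * e * (g : G)⁻¹) = far D a := by
      ext x
      constructor
      · rintro ⟨g, rfl⟩
        refine ⟨TT95.conj_mem hD _ he.1, fun h => he.2 ?_⟩
        rw [← mem_cent_singleton_iff.1 g.2] at h
        exact (Commute.conj_iff _).1 h
      · intro hx
        obtain ⟨g, hg, e'⟩ := hfar e he x hx
        exact ⟨⟨g, hg⟩, e'⟩
    rw [hr, hm]; exact hpm
  · rw [← hX, ← Nat.card_congr (Subgroup.subgroupOfEquivOfLe (hXa : X ≤ C)).toEquiv]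
    exact Subgroup.card_dvd_of_le (Subgroup.comap_mono (le_cent_singleton_iff.1 hf.2))

end Cfsg.Agent.TT95N
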