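import Cfsg.Agent.TT95N.Env
import Cfsg.Agent.TT95N.Seven

/-!
A symmetric group on the fixed members of the local group, lifted to the fixed neighbours.
-/

set_option autoImplicit false
set_option linter.unusedSectionVars false

namespace Cfsg.Agent.TT95N

open Cfsg.Agent.TT95

/-- The members fixed by a subgroup of order `p` are the transpositions of a symmetric group of degree `m`. -/
def HasSym {Q : Type*} [Group Q] (E : Set Q) (p m : ℕ) : Prop :=
  ∀ X : Subgroup Q, Nat.card X = p → ∃ e : Equiv.Perm (Fin m) →* Q,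
    Function.Injective e ∧ e '' swaps m = E ∩ (Subgroup.centralizer (X : Set Q) : Set Q)

theorem HasSym.map {Q Q' : Type*} [Group Q] [Group Q'] {E : Set Q} {p m : ℕ} (h : HasSym E p m) (θ : Q ≃* Q') :
    HasSym (θ '' E) p m := by
  intro X hX
  obtain ⟨e, he, hs⟩ := h (X.map θ.symm.toMonoidHom) (by rw [Subgroup.card_map_of_injective θ.symm.injective, hX])
  refine ⟨θ.toMonoidHom.comp e, θ.injective.comp he, ?_⟩
  rw [MonoidHom.coe_comp, Set.image_comp, hs]
  show θ '' (E ∩ _) = _
  rw [Set.image_inter θ.injective]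
  congr 1
  have : (θ '' (Subgroup.centralizer (X.map θ.symm.toMonoidHom : Set Q) : Set Q)) =
      ((Subgroup.centralizer (X.map θ.symm.toMonoidHom : Set Q)).map θ.toMonoidHom : Set Q') :=
    by rw [Subgroup.coe_map]; rfl
  rw [this, map_centralizer_equiv θ, Subgroup.coe_map]
  show ((Subgroup.centralizer (θ '' (θ.symm '' (X : Set Q')))) : Set Q') = _
  rw [← Set.image_comp, show (⇑θ ∘ ⇑θ.symm) = id from funext θ.apply_symm_apply, Set.image_id]

variable {G : Type*} [Group G] {D : Set G}

theorem HasSym.everywhere (hD : TTSet D) (hone : OneClass D) {d : G} (hd : d ∈ D) {p m : ℕ}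
    (h : HasSym (locSet D d) p m) : ∀ a ∈ D, HasSym (locSet D a) p m := fun a ha => by
  obtain ⟨g, rfl⟩ := hone d hd a ha
  obtain ⟨e, he⟩ := exists_locEquiv hD g d
  exact he ▸ h.map e

theorem fixSet_conj_mem (hD : TTSet D) {X : Subgroup G} {x y : G} (hx : x ∈ fixSet D X) (hy : y ∈ fixSet D X) :
    x * y * x⁻¹ ∈ fixSet D X :=
  conj_mem_fixSet hD (Subgroup.centralizer_le_normalizer _ hx.2) hy

variable [Finite G] {n k l s t p f nN nC m : ℕ} (hV : Env D n k l s t p f nN nC)

include hV

/-- The fixed neighbours of a fixed member are the transpositions of a symmetric group. -/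
theorem exists_sym_nb (hS : ∀ a ∈ D, HasSym (locSet D a) p (m + 1)) (hm : 5 ≤ m + 1) {X : Subgroup G}
    (hX : Nat.card X = p) {a : G} (ha : a ∈ fixSet D X) :
    ∃ ψ : Equiv.Perm (Fin (m + 1)) →* G, Function.Injective ψ ∧ ψ '' swaps (m + 1) = fixSet D X ∩ nb D a := by
  classical
  have hD := hV.lay.tt
  have hC := hV.cent a ha.1
  have hXa := hV.le_cent ha
  obtain ⟨e, he, hes⟩ := hS a ha.1 _ (card_xbar hV.lay ha.1 hC hV.prime hV.odd hX hXa)
  have hpre : ∀ i : Fin m, ∃ x, ∃ hx : x ∈ nb D a, x ∈ fixSet D X ∧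
      mkNb hx = e (Equiv.swap i.castSucc i.succ) := by
    intro i
    have h := hes.le ⟨_, isSwap_adj i, rfl⟩
    obtain ⟨x, hx, e', -⟩ := exists_of_mem_locSet hD h.1
    exact ⟨x, hx, ⟨hx.1, (mkNb_mem_cent_iff hV.lay ha.1 hC hV.prime hV.odd hX hXa hx).1 (e'.symm ▸ h.2)⟩, e'⟩
  choose x hx hxf hxe using hpre
  have hcomm : ∀ i j, Commute (x i) (x j) ↔
      Commute (Equiv.swap i.castSucc i.succ) (Equiv.swap j.castSucc j.succ : Equiv.Perm (Fin (m + 1))) := by
    intro i j
    rw [← commute_map_iff he, ← hxe i, ← hxe j]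
    exact ⟨mkNb_commute hD (hx i) (hx j), commute_of_mkNb hD (hx i) (hx j)⟩
  obtain ⟨ψ, hψ⟩ := exists_permHom x (fun i => TT95.sq hD (hxf i).1) (fun i j hij => by
    refine ThreeTransp.pow_three_of_not_commute hD.1 (hxf i).1 (hxf j).1 fun h => ?_
    have hb : j.castSucc = i.succ := Fin.ext (by simp [← hij])
    have := DFunLike.congr_fun ((hcomm i j).1 h).eq i.castSucc
    rw [hb] at this
    have n1 : i.castSucc ≠ i.succ := (Fin.castSucc_lt_succ (i := i)).ne
    have n2 : i.castSucc ≠ j.succ := fun e => by have := congrArg Fin.val e; simp at this; omega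
    have n3 : i.succ ≠ j.succ := fun e => by have := congrArg Fin.val e; simp at this; omega
    simp [Equiv.swap_apply_of_ne_of_ne n1 n2] at this
    exact n3 (congrArg Fin.succ this))
    (fun i j hij => (hcomm i j).2 (Equiv.Perm.Disjoint.commute fun y => by
      by_cases hy : y = i.castSucc ∨ y = i.succ
      · right
        apply Equiv.swap_apply_of_ne_of_ne <;>
        · intro e
          rcases hy with hy | hy <;> (rw [hy] at e; have := congrArg Fin.val e; simp at this; omega)
      · left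
        exact Equiv.swap_apply_of_ne_of_ne (fun e => hy (Or.inl e)) (fun e => hy (Or.inr e))))
  have hcl : ∀ u ∈ fixSet D X ∩ nb D a, ∀ v ∈ fixSet D X ∩ nb D a, u * v * u⁻¹ ∈ fixSet D X ∩ nb D a := by
    intro u hu v hv
    refine ⟨fixSet_conj_mem hD hu.1 hv.1, ?_⟩
    rw [inv_eq hD hu.1.1]
    exact (nb_closed hD a).2 u hu.2 v hv.2
  have hsub : ∀ σ ∈ swaps (m + 1), ψ σ ∈ fixSet D X ∩ nb D a := fun σ hσ =>
    swap_image_mem ψ hcl (fun i => by rw [hψ]; exact ⟨hxf i, hx i⟩) hσ
  have hrange : ∀ σ, ψ σ ∈ Subgroup.closure (nb D a) := fun σ => by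
    have hσ : σ ∈ (Subgroup.closure (Set.range fun i : Fin m => Equiv.swap i.castSucc i.succ) :
        Subgroup (Equiv.Perm (Fin (m + 1)))) := by
      rw [closure_adj]; exact Subgroup.mem_top σ
    exact (Subgroup.closure_le (K := (Subgroup.closure (nb D a)).comap ψ)).2 (by
      rintro _ ⟨i, rfl⟩
      simp only [SetLike.mem_coe, Subgroup.mem_comap]
      rw [hψ]; exact Subgroup.subset_closure (hx i)) hσ
  have hcomp : (QuotientGroup.mk' _).comp (ψ.codRestrict _ hrange) = e := permHom_ext fun i => by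
    rw [← hxe i]
    exact congrArg (QuotientGroup.mk' _) (Subtype.ext (hψ i))
  have hinj : Function.Injective ψ := fun σ τ h => he (by
    rw [← hcomp]
    exact congrArg (QuotientGroup.mk' _) (Subtype.ext h))
  refine ⟨ψ, hinj, Set.eq_of_subset_of_ncard_le (Set.image_subset_iff.2 hsub) ?_ (Set.toFinite _)⟩
  rw [TT95N.ncard_fix_nb hV.lay ha.1 hC hV.prime hV.odd hX hXa, ← hes, Set.ncard_image_of_injective _ he,
    Set.ncard_image_of_injective _ hinj]

end Cfsg.Agent.TT95N
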