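import Mathlib
import Cfsg.Agent.S2530
import Cfsg.Agent.SymRec38.Aut

/-!
Homomorphisms from symmetric groups read on transpositions.
-/

set_option autoImplicit false

namespace Cfsg.Agent.TT95N

open Equiv Equiv.Perm

variable {G : Type*} [Group G]

/-- A homomorphism from the symmetric group, given on the adjacent transpositions. -/
theorem exists_permHom {n : ℕ} (t : Fin n → G) (h1 : ∀ i, t i * t i = 1)
    (h3 : ∀ i j : Fin n, (i : ℕ) + 1 = j → (t i * t j) ^ 3 = 1)
    (h2 : ∀ i j : Fin n, (i : ℕ) + 1 < j → Commute (t i) (t j)) :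
    ∃ e : Perm (Fin (n + 1)) →* G, ∀ i : Fin n, e (swap i.castSucc i.succ) = t i := by
  obtain ⟨cs, hcs⟩ := Cfsg.Agent.S2530.result n
  have hl : (CoxeterMatrix.A n).IsLiftable t := by
    intro i j
    show (t i * t j) ^ (if _ then _ else _) = 1
    by_cases hij : i = j
    · subst hij; rw [if_pos rfl, pow_one, h1]
    have hij' : (i : ℕ) ≠ j := fun h => hij (Fin.ext h)
    rw [if_neg hij]
    by_cases h : (j : ℕ) + 1 = i ∨ (i : ℕ) + 1 = j
    · rw [if_pos h]
      rcases h with h | h
      · have e := congrArg (·⁻¹) (h3 j i h)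
        simp only [inv_one, ← inv_pow, mul_inv_rev, inv_eq_of_mul_eq_one_right (h1 _)] at e
        exact e
      · exact h3 i j h
    · rw [if_neg h]
      obtain ⟨g1, g2⟩ := not_or.1 h
      have hc : Commute (t i) (t j) := by
        rcases Nat.lt_or_ge (i : ℕ) j with g | g
        · exact h2 i j (by omega)
        · exact (h2 j i (by omega)).symm
      rw [hc.mul_pow, sq, sq, h1, h1, one_mul]
  exact ⟨cs.lift ⟨t, hl⟩, fun i => by rw [← hcs i]; exact cs.lift_apply_simple hl i⟩

theorem closure_adj (n : ℕ) :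
    Subgroup.closure (Set.range fun i : Fin n => swap i.castSucc i.succ) = (⊤ : Subgroup (Perm (Fin (n + 1)))) := by
  refine eq_top_iff.2 fun g _ => ?_
  have hg : g ∈ Submonoid.closure (Set.range fun i : Fin n => swap i.castSucc i.succ) := by
    rw [Equiv.Perm.mclosure_swap_castSucc_succ]; exact Submonoid.mem_top g
  exact Subgroup.le_closure_toSubmonoid _ hg

theorem permHom_ext {n : ℕ} {e e' : Perm (Fin (n + 1)) →* G}
    (h : ∀ i : Fin n, e (swap i.castSucc i.succ) = e' (swap i.castSucc i.succ)) : e = e' :=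
  MonoidHom.eq_of_eqOn_dense (closure_adj n) (by rintro _ ⟨i, rfl⟩; exact h i)

theorem isSwap_adj {n : ℕ} (i : Fin n) : (swap i.castSucc i.succ : Perm (Fin (n + 1))).IsSwap :=
  ⟨_, _, (Fin.castSucc_lt_succ (i := i)).ne, rfl⟩

theorem isConj_swaps {α : Type*} [Fintype α] [DecidableEq α] {s t : Perm α} (hs : s.IsSwap) (ht : t.IsSwap) :
    IsConj s t := by
  obtain ⟨a, b, hab, rfl⟩ := hs
  obtain ⟨c, d, hcd, rfl⟩ := ht
  exact Equiv.Perm.isConj_swap hab hcd

/-- If adjacent transpositions map into a set closed under conjugation by its members, so do all. -/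
theorem swap_image_mem {n : ℕ} (e : Perm (Fin (n + 1)) →* G) {S : Set G}
    (hS : ∀ x ∈ S, ∀ y ∈ S, x * y * x⁻¹ ∈ S) (h : ∀ i : Fin n, e (swap i.castSucc i.succ) ∈ S)
    {s : Perm (Fin (n + 1))} (hs : s.IsSwap) : e s ∈ S := by
  classical
  cases n with
  | zero => obtain ⟨a, b, hab, -⟩ := hs; exact absurd (Subsingleton.elim (α := Fin 1) a b) hab
  | succ n =>
    obtain ⟨π, rfl⟩ := isConj_iff.1 (isConj_swaps (isSwap_adj (0 : Fin (n + 1))) hs)
    have hπ : π ∈ Subgroup.closure (Set.range fun i : Fin (n + 1) => swap i.castSucc i.succ) := by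
      rw [closure_adj]; exact Subgroup.mem_top π
    suffices ∀ x ∈ S, e π * x * (e π)⁻¹ ∈ S by
      rw [map_mul, map_mul, map_inv]; exact this _ (h 0)
    clear hs
    induction hπ using Subgroup.closure_induction_left with
    | one => simp
    | mul_left a ha b _ ih =>
      obtain ⟨i, rfl⟩ := ha
      intro x hx
      have := hS _ (h i) _ (ih x hx)
      simpa [mul_assoc] using this
    | inv_mul_cancel a ha b _ ih =>
      obtain ⟨i, rfl⟩ := ha
      intro x hx
      have := hS _ (h i) _ (ih x hx)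
      simpa [mul_assoc, Equiv.swap_inv] using this

/-- A homomorphism separating two transpositions is injective, in degree at least five. -/
theorem injective_of_ne {n : ℕ} (hn : 5 ≤ n) (e : Perm (Fin n) →* G) {s t : Perm (Fin n)} (hs : s.IsSwap)
    (ht : t.IsSwap) (hne : e s ≠ e t) : Function.Injective e := by
  classical
  haveI : IsSimpleGroup (alternatingGroup (Fin n)) :=
    alternatingGroup.isSimpleGroup (by rw [Nat.card_eq_fintype_card, Fintype.card_fin]; exact hn)
  rw [← MonoidHom.ker_eq_bot_iff]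
  rcases (inferInstance : (e.ker.subgroupOf (alternatingGroup (Fin n))).Normal).eq_bot_or_eq_top with h | h
  · rw [eq_bot_iff]
    intro x hx
    rw [Subgroup.mem_bot]
    by_contra hx1
    have hd : Disjoint e.ker (alternatingGroup (Fin n)) := Subgroup.subgroupOf_eq_bot.1 h
    have hcz : ∀ y ∈ alternatingGroup (Fin n), Commute x y := fun y hy =>
      Subgroup.commute_of_normal_of_disjoint _ _ inferInstance inferInstance hd x y hx hy
    -- a permutation commuting with all three-cycles is trivial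
    obtain ⟨a, ha⟩ : ∃ a, x a ≠ a := by
      by_contra h'; push Not at h'; exact hx1 (Equiv.ext h')
    obtain ⟨b, -, hb⟩ := Finset.exists_mem_notMem_of_card_lt_card (s := ({a, x a} : Finset (Fin n)))
      (t := Finset.univ) (lt_of_le_of_lt Finset.card_le_two (by rw [Finset.card_univ, Fintype.card_fin]; omega))
    obtain ⟨c, -, hc⟩ := Finset.exists_mem_notMem_of_card_lt_card (s := ({a, x a, b} : Finset (Fin n)))
      (t := Finset.univ) (lt_of_le_of_lt Finset.card_le_three (by rw [Finset.card_univ, Fintype.card_fin]; omega))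
    simp only [Finset.mem_insert, Finset.mem_singleton, not_or] at hb hc
    have h3 : (swap b c * swap b (x a) : Perm (Fin n)).IsThreeCycle :=
      Equiv.Perm.isThreeCycle_swap_mul_swap_same (Ne.symm hc.2.2) hb.2 hc.2.1
    have := DFunLike.congr_fun (hcz _ h3.mem_alternatingGroup).eq a
    simp only [Perm.mul_apply] at this
    rw [Equiv.swap_apply_of_ne_of_ne (Ne.symm hb.1) (Ne.symm ha),
      Equiv.swap_apply_of_ne_of_ne (Ne.symm hb.1) (Ne.symm hc.1), Equiv.swap_apply_right,
      Equiv.swap_apply_left] at this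
    exact hc.2.1 this.symm
  · exfalso
    apply hne
    have hm : s * t ∈ alternatingGroup (Fin n) := by
      rw [Equiv.Perm.mem_alternatingGroup, map_mul, hs.sign_eq, ht.sign_eq]; rfl
    have : s * t ∈ e.ker := Subgroup.subgroupOf_eq_top.1 h hm
    rw [MonoidHom.mem_ker, map_mul] at this
    have ht2 : t * t = 1 := by obtain ⟨a, b, -, rfl⟩ := ht; exact Equiv.swap_mul_self a b
    calc e s = e s * e (t * t) := by rw [ht2, map_one, mul_one]
      _ = e t := by rw [map_mul, ← mul_assoc, this, one_mul]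

/-- The transpositions of `Fin n`. -/
def swaps (n : ℕ) : Set (Perm (Fin n)) := {s | s.IsSwap}

theorem ncard_swaps (n : ℕ) : (swaps n).ncard =
    (Finset.univ.filter fun p : Fin n × Fin n => p.1 < p.2).card := by
  classical
  have he : swaps n = (fun p : Fin n × Fin n => swap p.1 p.2) '' ↑(Finset.univ.filter fun p : Fin n × Fin n => p.1 < p.2) := by
    ext s
    simp only [Set.mem_image, Finset.coe_filter, Finset.mem_univ, true_and, Set.mem_ofPred_eq, swaps]
    constructor
    · rintro ⟨a, b, hab, rfl⟩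
      rcases lt_or_gt_of_ne hab with h | h
      · exact ⟨(a, b), h, rfl⟩
      · exact ⟨(b, a), h, Equiv.swap_comm _ _⟩
    · rintro ⟨p, hp, rfl⟩; exact ⟨_, _, hp.ne, rfl⟩
  rw [he, Set.InjOn.ncard_image, Set.ncard_coe_finset]
  rintro ⟨a, b⟩ hab ⟨c, d⟩ hcd e
  simp only [Finset.coe_filter, Finset.mem_univ, true_and, Set.mem_ofPred_eq] at hab hcd
  have h1 := congrArg Perm.support e
  simp only [Equiv.Perm.support_swap hab.ne, Equiv.Perm.support_swap hcd.ne] at h1
  have ha : a ∈ ({c, d} : Finset (Fin n)) := by rw [← h1]; simp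
  have hb : b ∈ ({c, d} : Finset (Fin n)) := by rw [← h1]; simp
  simp only [Finset.mem_insert, Finset.mem_singleton] at ha hb
  rcases ha with rfl | rfl <;> rcases hb with rfl | rfl
  · exact absurd hab (lt_irrefl _)
  · rfl
  · exact absurd (hab.trans hcd) (lt_irrefl _)
  · exact absurd hab (lt_irrefl _)

theorem ncard_swaps_seven : (swaps 7).ncard = 21 := by rw [ncard_swaps]; decide

theorem ncard_swaps_nine : (swaps 9).ncard = 36 := by rw [ncard_swaps]; decide +kernel

set_option synthInstance.maxSize 4096 in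
theorem four_inner_data : ∀ p q r : Fin 4 × Fin 4, p.1 < p.2 → q.1 < q.2 → r.1 < r.2 →
    (swap p.1 p.2 * swap r.1 r.2 = swap r.1 r.2 * swap p.1 p.2 ∧ p ≠ r) →
    swap p.1 p.2 * swap q.1 q.2 ≠ swap q.1 q.2 * swap p.1 p.2 →
    swap r.1 r.2 * swap q.1 q.2 ≠ swap q.1 q.2 * swap r.1 r.2 →
    ∃ π : Perm (Fin 4), π * swap 0 1 * π⁻¹ = swap p.1 p.2 ∧ π * swap 1 2 * π⁻¹ = swap q.1 q.2 ∧
      π * swap 2 3 * π⁻¹ = swap r.1 r.2 := by
  decide +kernel

/-- An automorphism of the symmetric group of degree four preserving transpositions is inner. -/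
theorem four_inner (θ : Perm (Fin 4) ≃* Perm (Fin 4)) (hθ : ∀ s : Perm (Fin 4), s.IsSwap → (θ s).IsSwap) :
    ∃ π : Perm (Fin 4), ∀ g, θ g = π * g * π⁻¹ := by
  have norm : ∀ s : Perm (Fin 4), s.IsSwap → ∃ p : Fin 4 × Fin 4, p.1 < p.2 ∧ swap p.1 p.2 = s := by
    rintro _ ⟨a, b, hab, rfl⟩
    rcases lt_or_gt_of_ne hab with h | h
    · exact ⟨(a, b), h, rfl⟩
    · exact ⟨(b, a), h, Equiv.swap_comm _ _⟩
  obtain ⟨p, hp, ep⟩ := norm _ (hθ (swap 0 1) ⟨_, _, by decide, rfl⟩)
  obtain ⟨q, hq, eq'⟩ := norm _ (hθ (swap 1 2) ⟨_, _, by decide, rfl⟩)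
  obtain ⟨r, hr, er⟩ := norm _ (hθ (swap 2 3) ⟨_, _, by decide, rfl⟩)
  have key : ∀ u v : Perm (Fin 4), u * v ≠ v * u → θ u * θ v ≠ θ v * θ u := fun u v h h' =>
    h (θ.injective (by simpa only [map_mul] using h'))
  obtain ⟨π, h0, h1, h2⟩ := four_inner_data p q r hp hq hr
    ⟨by rw [ep, er, ← map_mul, ← map_mul]; exact congrArg θ (by decide), fun e => by
      rw [e, er] at ep
      exact absurd (θ.injective ep) (by decide)⟩
    (by rw [ep, eq']; exact key _ _ (by decide)) (by rw [er, eq']; exact key _ _ (by decide))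
  refine ⟨π, fun g => ?_⟩
  have h := permHom_ext (n := 3) (e := θ.toMonoidHom) (e' := (MulAut.conj π).toMonoidHom) (fun i => by
    show θ _ = π * _ * π⁻¹
    fin_cases i
    · exact ep.symm.trans h0.symm
    · exact eq'.symm.trans h1.symm
    · exact er.symm.trans h2.symm)
  exact DFunLike.congr_fun h g

end Cfsg.Agent.TT95N
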