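import Cfsg.Agent.TT95.LayPrim
import Cfsg.Agent.TT95N.Sym

/-!
The normaliser of the subgroup of order three generated by two transpositions that do not commute.
-/

set_option autoImplicit false
set_option linter.unusedSectionVars false

namespace Cfsg.Agent.TT95N

open TT95

variable {G : Type*} [Group G] {D : Set G} {n k l s t : ℕ} (hL : Lay D n k l s t)

include hL

/-- A transposition inverting `a * c` is one of the three transpositions in `⟨a, c⟩`. -/
theorem inverts_pair {a c b : G} (ha : a ∈ D) (hc : c ∈ far D a) (hb : b ∈ D)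
    (hinv : b * (a * c) * b = c * a) : b = a ∨ b = c ∨ b = a * c * a := by
  have hD := hL.tt
  have saa := sq hD ha
  have scc := sq hD hc.1
  have sbb := sq hD hb
  have hbr : a * c * a = c * a * c := braid hD ha hc.1 hc.2
  have hsplit : b * a * b * (b * c * b) = c * a := by
    rw [show b * a * b * (b * c * b) = b * a * (b * b) * c * b by group, sbb, mul_one, ← hinv]; group
  by_cases hba : Commute b a
  · have e1 : b * c * b = a * c * a := by
      rw [conj_fix hD hb hba] at hsplit
      calc b * c * b = a * (a * (b * c * b)) := by rw [← mul_assoc, saa, one_mul]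
        _ = a * c * a := by rw [hsplit]; group
    by_cases hbc : Commute b c
    · rw [conj_fix hD hb hbc] at e1
      exact absurd (show Commute a c by
        show a * c = c * a
        calc a * c = a * (a * c * a) := by rw [← e1]
          _ = (a * a) * c * a := by group
          _ = c * a := by rw [saa, one_mul]) hc.2
    rw [braid hD hb hc.1 hbc] at e1
    left
    calc b = c * (c * b * c) * c := by
          rw [show c * (c * b * c) * c = (c * c) * b * (c * c) by group, scc, one_mul, mul_one]
      _ = c * (c * a * c) * c := by rw [e1, hbr]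
      _ = a := by rw [show c * (c * a * c) * c = (c * c) * a * (c * c) by group, scc, one_mul, mul_one]
  by_cases hbc : Commute b c
  · have e1 : b * a * b = c * a * c := by
      rw [conj_fix hD hb hbc] at hsplit
      calc b * a * b = b * a * b * c * c := by rw [mul_assoc (b * a * b), scc, mul_one]
        _ = c * a * c := by rw [hsplit]
    rw [braid hD hb ha hba] at e1
    right; left
    calc b = a * (a * b * a) * a := by
          rw [show a * (a * b * a) * a = (a * a) * b * (a * a) by group, saa, one_mul, mul_one]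
      _ = a * (a * c * a) * a := by rw [e1, hbr]
      _ = c := by rw [show a * (a * c * a) * a = (a * a) * c * (a * a) by group, saa, one_mul, mul_one]
  have hall : ∀ u ∈ common D a c, Commute u b := by
    intro u hu
    by_contra hub
    have hua : Commute u a := hu.1.2.2.symm
    have huc : Commute u c := hu.2.2.2.symm
    have suu := sq hD hu.1.1
    have hx : Commute u (a * c) := hua.mul_right huc
    have hx' : Commute u (c * a) := huc.mul_right hua
    have hinv' : b * (c * a) * b = a * c := by
      rw [← hinv, show b * (b * (a * c) * b) * b = (b * b) * (a * c) * (b * b) by group, sbb, one_mul, mul_one]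
    have hv : (u * b * u) * (a * c) * (u * b * u) = c * a := by
      calc (u * b * u) * (a * c) * (u * b * u) = u * b * (u * (a * c) * u) * b * u := by group
        _ = u * (b * (a * c) * b) * u := by
          rw [hx.eq, mul_assoc (a * c) u u, suu, mul_one]; group
        _ = c * a := by rw [hinv, hx'.eq, mul_assoc, suu, mul_one]
    have hu' : b * (u * b * u) * b = u := by
      rw [braid hD hu.1.1 hb hub, show b * (b * u * b) * b = (b * b) * u * (b * b) by group, sbb, one_mul, mul_one]
    have huinv : u * (a * c) * u = c * a := by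
      calc u * (a * c) * u = b * (u * b * u) * b * (a * c) * (b * (u * b * u) * b) := by rw [hu']
        _ = b * ((u * b * u) * (b * (a * c) * b) * (u * b * u)) * b := by group
        _ = b * ((u * b * u) * (c * a) * (u * b * u)) * b := by rw [hinv]
        _ = b * (a * c) * b := by
          congr 2
          have suvu : (u * b * u) * (u * b * u) = 1 := sq hD (conj_mem' hD hb hu.1.1)
          rw [← hv, show (u * b * u) * ((u * b * u) * (a * c) * (u * b * u)) * (u * b * u) =
            ((u * b * u) * (u * b * u)) * (a * c) * ((u * b * u) * (u * b * u)) by group, suvu, one_mul, mul_one]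
        _ = c * a := hinv
    rw [hx.eq, mul_assoc, suu, mul_one] at huinv
    exact hc.2 huinv
  rcases hL.dperp a ha c hc b ⟨hb, fun h => hba h.symm⟩ (fun e he => hall e he) with e | e
  · exact Or.inr (Or.inl e)
  · exact Or.inr (Or.inr e)

/-- The normaliser of `⟨a * c⟩` is the product of `⟨a, c⟩` and the centraliser of `a` and `c`. -/
theorem normalizer_pair {a c : G} (ha : a ∈ D) (hc : c ∈ far D a) :
    Subgroup.closure ({a, c} : Set G) ⊔ Subgroup.centralizer ({a, c} : Set G) =
      Subgroup.normalizer ((Subgroup.zpowers (a * c) : Subgroup G) : Set G) := by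
  have hD := hL.tt
  set x := a * c with hxdef
  set X := Subgroup.zpowers x
  set S := Subgroup.closure ({a, c} : Set G)
  have saa := sq hD ha
  have scc := sq hD hc.1
  have haS : a ∈ S := Subgroup.subset_closure (by simp)
  have hcS : c ∈ S := Subgroup.subset_closure (by simp)
  have hbr : a * c * a = c * a * c := braid hD ha hc.1 hc.2
  have hx3 : x ^ 3 = 1 := by
    rw [pow_succ, pow_succ, pow_one, hxdef,
      show a * c * (a * c) * (a * c) = a * c * a * (c * a * c) by group, ← hbr]
    exact sq hD (conj_mem' hD hc.1 ha)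
  have hxi : x⁻¹ = c * a := by rw [hxdef, mul_inv_rev, inv_eq hD hc.1, inv_eq hD ha]
  have hpow : ∀ y, y ∈ X → y = 1 ∨ y = x ∨ y = x⁻¹ := by
    intro y hy
    obtain ⟨i, rfl⟩ := Subgroup.mem_zpowers_iff.1 hy
    have h3 : x ^ (3 : ℤ) = 1 := by exact_mod_cast hx3
    rw [show i = 3 * (i / 3) + i % 3 by omega, zpow_add, zpow_mul, h3, one_zpow, one_mul]
    have : i % 3 = 0 ∨ i % 3 = 1 ∨ i % 3 = 2 := by omega
    rcases this with e | e | e <;> rw [e]
    · exact Or.inl (zpow_zero x)
    · exact Or.inr (Or.inl (zpow_one x))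
    · refine Or.inr (Or.inr ?_)
      rw [show (2 : ℤ) = 3 + -1 by norm_num, zpow_add, h3, one_mul, zpow_neg_one]
  have hgen : ∀ (g : G), g * x * g⁻¹ ∈ X → ∀ h ∈ X, g * h * g⁻¹ ∈ X := by
    intro g hg h hh
    obtain ⟨i, rfl⟩ := Subgroup.mem_zpowers_iff.1 hh
    rw [← conj_zpow]
    exact X.zpow_mem hg i
  have hnorm : ∀ g : G, g * x * g⁻¹ ∈ X → g⁻¹ * x * g ∈ X → g ∈ Subgroup.normalizer (X : Set G) := by
    intro g h1 h2
    rw [Subgroup.mem_normalizer_iff]
    refine fun h => ⟨hgen g h1 h, fun hh => ?_⟩
    have := hgen g⁻¹ (by rwa [inv_inv]) _ hh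
    simpa [mul_assoc] using this
  have hxX : x ∈ X := Subgroup.mem_zpowers x
  refine le_antisymm (sup_le ((Subgroup.closure_le _).2 ?_) fun g hg => ?_) fun g hg => ?_
  · rintro y (rfl | rfl)
    · have e : y * x * y = x⁻¹ := by rw [hxi, hxdef, ← mul_assoc, saa, one_mul]
      refine hnorm y ?_ ?_
      · rw [inv_eq hD ha, e]; exact X.inv_mem hxX
      · rw [inv_eq hD ha, e]; exact X.inv_mem hxX
    · have e : y * x * y = x⁻¹ := by rw [hxi, hxdef, mul_assoc, mul_assoc a y y, scc, mul_one]
      refine hnorm y ?_ ?_
      · rw [inv_eq hD hc.1, e]; exact X.inv_mem hxX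
      · rw [inv_eq hD hc.1, e]; exact X.inv_mem hxX
  · have h1 : Commute g x :=
      (show Commute g a from (Subgroup.mem_centralizer_iff.1 hg a (by simp)).symm).mul_right
        (show Commute g c from (Subgroup.mem_centralizer_iff.1 hg c (by simp)).symm)
    refine hnorm g ?_ ?_
    · rw [h1.eq, mul_inv_cancel_right]; exact hxX
    · rw [h1.inv_left.eq, inv_mul_cancel_right]; exact hxX
  · rw [Subgroup.mem_normalizer_iff] at hg
    have hgx : ∀ y ∈ D, y * x * y = x⁻¹ → (g * y * g⁻¹) * x * (g * y * g⁻¹) = x⁻¹ := by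
      intro y hy hyx
      have hm : g⁻¹ * x * g ∈ X := by rw [hg, show g * (g⁻¹ * x * g) * g⁻¹ = x by group]; exact hxX
      have hyx' : y * x⁻¹ * y = x := by
        rw [← hyx, show y * (y * x * y) * y = (y * y) * x * (y * y) by group, sq hD hy, one_mul, mul_one]
      have key : y * (g⁻¹ * x * g) * y = (g⁻¹ * x * g)⁻¹ := by
        rcases hpow _ hm with e | e | e <;> rw [e]
        · rw [mul_one, inv_one]; exact sq hD hy
        · exact hyx
        · rw [inv_inv]; exact hyx'
      calc (g * y * g⁻¹) * x * (g * y * g⁻¹) = g * (y * (g⁻¹ * x * g) * y) * g⁻¹ := by group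
        _ = x⁻¹ := by rw [key]; group
    have h3 : ∀ y ∈ D, y * x * y = x⁻¹ → g * y * g⁻¹ = a ∨ g * y * g⁻¹ = c ∨ g * y * g⁻¹ = a * c * a :=
      fun y hy hyx => inverts_pair hL ha hc (conj_mem hD g hy) (by rw [← hxdef, hgx y hy hyx, hxi])
    have ca := h3 a ha (by rw [hxi, hxdef, ← mul_assoc, saa, one_mul])
    have cc := h3 c hc.1 (by rw [hxi, hxdef, mul_assoc, mul_assoc a c c, scc, mul_one])
    have heS : a * c * a ∈ S := mul_mem (mul_mem haS hcS) haS
    have see : (a * c * a)⁻¹ = a * c * a := inv_eq hD (conj_mem' hD hc.1 ha)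
    have ne_ca : c ≠ a := fun e => hc.2 (e ▸ Commute.refl _)
    -- move the image of `a` back
    obtain ⟨s₁, hs₁, e₁, hset⟩ : ∃ s₁ ∈ S, s₁ * (g * a * g⁻¹) * s₁⁻¹ = a ∧
        (s₁ * (g * c * g⁻¹) * s₁⁻¹ = a ∨ s₁ * (g * c * g⁻¹) * s₁⁻¹ = c ∨
          s₁ * (g * c * g⁻¹) * s₁⁻¹ = a * c * a) := by
      rcases ca with e | e | e
      · exact ⟨1, one_mem _, by simpa using e, by simpa using cc⟩
      · have t1 : a * c * a * c * (a * c * a)⁻¹ = a := by
          rw [see]
          calc a * c * a * c * (a * c * a) = a * (c * a * c) * (a * c * a) := by group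
            _ = a * (a * c * a) * (a * c * a) := by rw [hbr]
            _ = (a * a) * c * (a * a) * c * a := by group
            _ = a := by rw [saa, one_mul, mul_one, scc, one_mul]
        have t2 : a * c * a * a * (a * c * a)⁻¹ = c := by
          rw [see]
          calc a * c * a * a * (a * c * a) = a * c * (a * a) * (a * c * a) := by group
            _ = a * c * (c * a * c) := by rw [saa, mul_one, hbr]
            _ = a * (c * c) * a * c := by group
            _ = c := by rw [scc, mul_one, saa, one_mul]
        refine ⟨a * c * a, heS, by rw [e, t1], ?_⟩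
        rcases cc with f | f | f <;> rw [f]
        · exact Or.inr (Or.inl t2)
        · exact Or.inl t1
        · exact Or.inr (Or.inr (mul_inv_cancel_right _ _))
      · have t1 : c * (a * c * a) * c⁻¹ = a := by
          rw [inv_eq hD hc.1, hbr, show c * (c * a * c) * c = (c * c) * a * (c * c) by group, scc, one_mul, mul_one]
        refine ⟨c, hcS, by rw [e, t1], ?_⟩
        rcases cc with f | f | f <;> rw [f]
        · exact Or.inr (Or.inr (by rw [inv_eq hD hc.1, hbr]))
        · exact Or.inr (Or.inl (mul_inv_cancel_right _ _))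
        · exact Or.inl t1
    have hne : s₁ * (g * c * g⁻¹) * s₁⁻¹ ≠ a := fun e => by
      have := e.trans e₁.symm
      exact ne_ca (mul_left_cancel (mul_right_cancel (mul_left_cancel (mul_right_cancel this))))
    obtain ⟨s₂, hs₂, e₂, e₃⟩ : ∃ s₂ ∈ S, s₂ * a * s₂⁻¹ = a ∧ s₂ * (s₁ * (g * c * g⁻¹) * s₁⁻¹) * s₂⁻¹ = c := by
      rcases hset with e | e | e
      · exact absurd e hne
      · exact ⟨1, one_mem _, by simp, by simpa using e⟩
      · refine ⟨a, haS, mul_inv_cancel_right _ _, ?_⟩
        rw [e, inv_eq hD ha, show a * (a * c * a) * a = (a * a) * c * (a * a) by group, saa, one_mul, mul_one]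
    have hcen : s₂ * s₁ * g ∈ Subgroup.centralizer ({a, c} : Set G) := by
      rw [Subgroup.mem_centralizer_iff]
      have k1 : (s₂ * s₁ * g) * a * (s₂ * s₁ * g)⁻¹ = a := by
        rw [show (s₂ * s₁ * g) * a * (s₂ * s₁ * g)⁻¹ = s₂ * (s₁ * (g * a * g⁻¹) * s₁⁻¹) * s₂⁻¹ by group, e₁, e₂]
      have k2 : (s₂ * s₁ * g) * c * (s₂ * s₁ * g)⁻¹ = c := by
        rw [show (s₂ * s₁ * g) * c * (s₂ * s₁ * g)⁻¹ = s₂ * (s₁ * (g * c * g⁻¹) * s₁⁻¹) * s₂⁻¹ by group, e₃]
      rintro y (rfl | rfl)
      · exact (mul_inv_eq_iff_eq_mul.1 k1).symm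
      · exact (mul_inv_eq_iff_eq_mul.1 k2).symm
    rw [show g = (s₂ * s₁)⁻¹ * (s₂ * s₁ * g) by group]
    exact mul_mem (Subgroup.mem_sup_left (inv_mem (mul_mem hs₂ hs₁))) (Subgroup.mem_sup_right hcen)

/-- The members of `D` centralising `a * c`. -/
theorem centralize_pair {a c : G} (ha : a ∈ D) (hc : c ∈ far D a) :
    D ∩ (Subgroup.centralizer ((Subgroup.zpowers (a * c) : Subgroup G) : Set G) : Set G) = common D a c := by
  have hD := hL.tt
  ext y
  constructor
  · rintro ⟨hy, hyx⟩
    have h : Commute y (a * c) := (Subgroup.mem_centralizer_iff.1 hyx _ (Subgroup.mem_zpowers _)).symm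
    have saa := sq hD ha
    have syy := sq hD hy
    have hyc : Commute y a → Commute y c := fun h1 => by
      have := h1.mul_right h
      rwa [← mul_assoc, saa, one_mul] at this
    have hya : Commute y a := by
      by_contra hn
      -- the conjugate of `a` inverts `a * c`
      have hinv : (y * a * y) * (a * c) * (y * a * y) = c * a := by
        have h' : Commute y (c * a) := by
          have := h.inv_right
          rwa [mul_inv_rev, inv_eq hD hc.1, inv_eq hD ha] at this
        calc (y * a * y) * (a * c) * (y * a * y) = y * a * (y * (a * c) * y) * a * y := by group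
          _ = y * ((a * a) * c * a) * y := by rw [h.eq, mul_assoc (a * c) y y, syy, mul_one]; group
          _ = y * (c * a) * y := by rw [saa, one_mul]
          _ = c * a := by rw [h'.eq, mul_assoc, syy, mul_one]
      have hyD : ∀ {u}, y * a * y = u → y = a * u * a := fun e => by
        rw [← e, braid hD hy ha hn, show a * (a * y * a) * a = (a * a) * y * (a * a) by group, saa, one_mul, mul_one]
      rcases inverts_pair hL ha hc (conj_mem' hD ha hy) hinv with e | e | e
      · exact hn (by
          have := hyD e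
          rw [saa, one_mul] at this
          rw [this])
      · -- then `y` inverts as well as centralises
        have := hyD e
        rw [this] at h
        apply hc.2
        have h2 : a * c * a * (a * c) = a * c * (a * c * a) := h.eq
        rw [show a * c * a * (a * c) = a * c * (a * a) * c by group, saa, mul_one,
          show a * c * c = a * (c * c) by group, sq hD hc.1, mul_one, braid hD ha hc.1 hc.2,
          show a * c * (c * a * c) = a * (c * c) * a * c by group, sq hD hc.1, mul_one, saa, one_mul] at h2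
        exact h2 ▸ Commute.refl a
      · have := hyD e
        rw [show a * (a * c * a) * a = (a * a) * c * (a * a) by group, saa, one_mul, mul_one] at this
        rw [this] at h
        apply hc.2
        have h2 : Commute c (a * c * c) := h.mul_right (Commute.refl c)
        rw [mul_assoc, sq hD hc.1, mul_one] at h2
        exact h2.symm
    have hycc := hyc hya
    refine ⟨⟨hy, ?_, hya.symm⟩, ⟨hy, ?_, hycc.symm⟩⟩
    · rintro rfl; exact hc.2 hycc
    · rintro rfl; exact hc.2 hya.symm
  · intro hy
    refine ⟨hy.1.1, ?_⟩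
    rw [SetLike.mem_coe, Subgroup.mem_centralizer_iff]
    intro z hz
    obtain ⟨i, rfl⟩ := Subgroup.mem_zpowers_iff.1 hz
    exact (((hy.1.2.2.symm).mul_right hy.2.2.2.symm).zpow_right i).eq.symm

omit hL in
/-- Two transpositions that do not commute generate the symmetric group of degree three. -/
theorem pair_iso_sym3 (hD : TTSet D) {a c : G} (ha : a ∈ D) (hc : c ∈ far D a) :
    Nonempty (Subgroup.closure ({a, c} : Set G) ≃* Equiv.Perm (Fin 3)) := by
  obtain ⟨e, he⟩ := exists_permHom (n := 2) ![a, c]
    (by intro i; fin_cases i <;> [exact sq hD ha; exact sq hD hc.1])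
    (by
      intro i j hij
      fin_cases i <;> fin_cases j <;> simp at hij
      have := braid hD ha hc.1 hc.2
      show (a * c) ^ 3 = 1
      rw [pow_succ, pow_succ, pow_one, show a * c * (a * c) * (a * c) = a * c * a * (c * a * c) by group, ← this]
      exact sq hD (conj_mem' hD hc.1 ha))
    (by intro i j hij; exfalso; omega)
  have e0 : e (Equiv.swap 0 1) = a := he 0
  have e1 : e (Equiv.swap 1 2) = c := he 1
  have hinj : Function.Injective e := by
    refine (injective_iff_map_eq_one e).2 fun σ hσ => ?_
    have h6 : ∀ σ : Equiv.Perm (Fin 3), σ = 1 ∨ σ = Equiv.swap 0 1 ∨ σ = Equiv.swap 1 2 ∨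
        σ = Equiv.swap 0 1 * Equiv.swap 1 2 * Equiv.swap 0 1 ∨ σ = Equiv.swap 0 1 * Equiv.swap 1 2 ∨
        σ = Equiv.swap 1 2 * Equiv.swap 0 1 := by decide
    rcases h6 σ with r | r | r | r | r | r
    · exact r
    all_goals
      exfalso
      rw [r] at hσ
      simp only [map_mul, e0, e1] at hσ
    · exact ne_one hD ha hσ
    · exact ne_one hD hc.1 hσ
    · exact ne_one hD (conj_mem' hD hc.1 ha) hσ
    · exact hc.2 (by rw [eq_inv_of_mul_eq_one_left hσ]; exact (Commute.refl c).inv_left)
    · exact hc.2 (by rw [eq_inv_of_mul_eq_one_left hσ]; exact (Commute.refl a).inv_right)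
  have hrange : e.range = Subgroup.closure ({a, c} : Set G) := by
    rw [MonoidHom.range_eq_map, ← closure_adj 2, MonoidHom.map_closure]
    congr 1
    ext y
    simp only [Set.mem_image, Set.mem_range, Set.mem_insert_iff, Set.mem_singleton_iff]
    constructor
    · rintro ⟨_, ⟨i, rfl⟩, rfl⟩
      rw [he]
      fin_cases i
      · exact Or.inl rfl
      · exact Or.inr rfl
    · rintro (rfl | rfl)
      · exact ⟨_, ⟨0, rfl⟩, he 0⟩
      · exact ⟨_, ⟨1, rfl⟩, he 1⟩
  exact ⟨((MonoidHom.ofInjective hinj).trans (MulEquiv.subgroupCongr hrange)).symm⟩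

omit hL in
/-- `⟨a, c⟩` meets its centraliser trivially, and commutes with it. -/
theorem pair_inf_centralizer (hD : TTSet D) {a c : G} (ha : a ∈ D) (hc : c ∈ far D a) :
    Subgroup.closure ({a, c} : Set G) ⊓ Subgroup.centralizer ({a, c} : Set G) = ⊥ := by
  obtain ⟨f⟩ := pair_iso_sym3 hD ha hc
  rw [eq_bot_iff]
  rintro y ⟨hy, hy'⟩
  rw [Subgroup.mem_bot]
  have hz : (⟨y, hy⟩ : Subgroup.closure ({a, c} : Set G)) ∈
      Subgroup.center (Subgroup.closure ({a, c} : Set G)) := by
    rw [Subgroup.mem_center_iff]
    rintro ⟨z, hz⟩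
    have hle : Subgroup.closure ({a, c} : Set G) ≤ Subgroup.centralizer ({y} : Set G) := by
      rw [Subgroup.closure_le]
      intro w hw
      rw [SetLike.mem_coe, Subgroup.mem_centralizer_singleton_iff]
      exact Subgroup.mem_centralizer_iff.1 hy' w hw
    exact Subtype.ext (Subgroup.mem_centralizer_singleton_iff.1 (hle hz))
  have h1 : ∀ q, q * f ⟨y, hy⟩ = f ⟨y, hy⟩ * q := fun q => by
    have := congrArg f (Subgroup.mem_center_iff.1 hz (f.symm q))
    simpa using this
  have hc0 : ∀ σ : Equiv.Perm (Fin 3), (∀ q, q * σ = σ * q) → σ = 1 := by decide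
  exact congrArg Subtype.val (f.injective ((hc0 _ h1).trans (map_one f).symm))

omit hL in
theorem pair_commutes {a c x y : G} (hx : x ∈ Subgroup.closure ({a, c} : Set G))
    (hy : y ∈ Subgroup.centralizer ({a, c} : Set G)) : x * y = y * x := by
  have hle : Subgroup.closure ({a, c} : Set G) ≤ Subgroup.centralizer ({y} : Set G) := by
    rw [Subgroup.closure_le]
    intro w hw
    rw [SetLike.mem_coe, Subgroup.mem_centralizer_singleton_iff]
    exact Subgroup.mem_centralizer_iff.1 hy w hw
  exact Subgroup.mem_centralizer_singleton_iff.1 (hle hx)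

end Cfsg.Agent.TT95N
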